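import Groth.Agent.Cubic.K752.Basic

set_option autoImplicit false
set_option linter.unusedSectionVars false

/-! Rational points of a cubic surface outside finitely many planes. -/

namespace K752.Avoid

open K656.Trilin K752.PF K752.Basic Module

universe u v

variable (k : Type u) {K : Type v} [Field k] [Field K] [Algebra k K]

/-- A vector with coordinates in `k`. -/
def IsK (x : Fin 4 → K) : Prop := ∀ i, x i ∈ (algebraMap k K).fieldRange

/-- A linear form with coefficients in `k`. -/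
def FormK (φ : (Fin 4 → K) →ₗ[K] K) : Prop := ∀ x, IsK k x → φ x ∈ (algebraMap k K).fieldRange

/-- A trilinear form with coefficients in `k`. -/
def TriK (T : (Fin 4 → K) →ₗ[K] (Fin 4 → K) →ₗ[K] (Fin 4 → K) →ₗ[K] K) : Prop :=
  ∀ x y z, IsK k x → IsK k y → IsK k z → T x y z ∈ (algebraMap k K).fieldRange

variable {k}

theorem IsK.add {x y : Fin 4 → K} (hx : IsK k x) (hy : IsK k y) : IsK k (x + y) :=
  fun i => add_mem (hx i) (hy i)

theorem IsK.smul {x : Fin 4 → K} {c : K} (hc : c ∈ (algebraMap k K).fieldRange) (hx : IsK k x) :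
    IsK k (c • x) := fun i => mul_mem hc (hx i)

theorem IsK.neg {x : Fin 4 → K} (hx : IsK k x) : IsK k (-x) := fun i => neg_mem (hx i)

theorem IsK.sub {x y : Fin 4 → K} (hx : IsK k x) (hy : IsK k y) : IsK k (x - y) :=
  fun i => sub_mem (hx i) (hy i)

theorem IsK.zero : IsK k (0 : Fin 4 → K) := fun _ => zero_mem _

theorem IsK.single (i : Fin 4) : IsK k (Pi.single i 1 : Fin 4 → K) := fun j => by
  by_cases h : j = i
  · subst h; simp
  · rw [Pi.single_eq_of_ne h]; exact zero_mem _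

theorem IsK.sum {ι : Type*} (s : Finset ι) (f : ι → Fin 4 → K) (h : ∀ i ∈ s, IsK k (f i)) :
    IsK k (∑ i ∈ s, f i) := fun j => by
  rw [Finset.sum_apply]
  exact sum_mem fun i hi => h i hi j

theorem sum_single (x : Fin 4 → K) : ∑ i, x i • (Pi.single i 1 : Fin 4 → K) = x := by
  funext j
  simp [Finset.sum_apply, Pi.single_apply]

/-- A property generic on the kernel of a rational linear form holds at a rational point. -/
theorem exists_kpt [Infinite k] {φ : (Fin 4 → K) →ₗ[K] K} (hφ : FormK k φ)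
    {P : (Fin 4 → K) → Prop} (hP : Gen (LinearMap.ker φ) P) :
    ∃ x ∈ LinearMap.ker φ, IsK k x ∧ P x := by
  obtain ⟨g, hg, ⟨x, hx, hgx⟩, hP⟩ := hP
  obtain ⟨b, hbK, hbφ, hb⟩ : ∃ b : Fin 4 → Fin 4 → K, (∀ i, IsK k (b i)) ∧ (∀ i, φ (b i) = 0) ∧
      ∑ i, x i • b i = x := by
    by_cases h0 : ∀ i, φ (Pi.single i 1) = 0
    · exact ⟨fun i => Pi.single i 1, fun i => IsK.single (k := k) i, h0, sum_single x⟩
    · push Not at h0
      obtain ⟨i, hi⟩ := h0
      set e : Fin 4 → K := (φ (Pi.single i 1))⁻¹ • Pi.single i 1 with he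
      have heK : IsK k e := IsK.smul (inv_mem (hφ _ (IsK.single i))) (IsK.single i)
      have heφ : φ e = 1 := by rw [he, map_smul, smul_eq_mul, inv_mul_cancel₀ hi]
      refine ⟨fun j => Pi.single j 1 - φ (Pi.single j 1) • e, fun j =>
        (IsK.single j).sub (IsK.smul (hφ _ (IsK.single j)) heK), fun j => ?_, ?_⟩
      · rw [map_sub, map_smul, heφ, smul_eq_mul, mul_one, sub_self]
      · have h1 : ∑ j, x j • ((Pi.single j 1 : Fin 4 → K) - φ (Pi.single j 1) • e) =
            x - φ x • e := by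
          have h2 : φ x = ∑ j, x j * φ (Pi.single j 1) := by
            conv_lhs => rw [← sum_single x]
            rw [map_sum]
            simp only [map_smul, smul_eq_mul]
          rw [h2, Finset.sum_smul]
          simp only [smul_sub, Finset.sum_sub_distrib, smul_smul]
          rw [sum_single x]
        rw [h1]
        have : φ x = 0 := by simpa using hx
        rw [this, zero_smul, sub_zero]
  obtain ⟨c, hc⟩ := hg.exists_kpt (k := k) b x (by rw [hb]; exact hgx)
  have hmem : ∑ i, algebraMap k K (c i) • b i ∈ LinearMap.ker φ := by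
    rw [LinearMap.mem_ker, map_sum]
    exact Finset.sum_eq_zero fun i _ => by rw [map_smul, hbφ, smul_zero]
  exact ⟨_, hmem, IsK.sum _ _ fun i _ => IsK.smul ⟨c i, rfl⟩ (hbK i), hP _ hmem hc⟩

variable {T : (Fin 4 → K) →ₗ[K] (Fin 4 → K) →ₗ[K] (Fin 4 → K) →ₗ[K] K}

theorem IsK.tan (hTk : TriK k T) {a w : Fin 4 → K} (ha : IsK k a) (hw : IsK k w) :
    IsK k (Basic.tan T a w) := by
  unfold Basic.tan
  have h3 : (3 : K) ∈ (algebraMap k K).fieldRange := ⟨3, map_ofNat _ 3⟩
  exact (IsK.smul (mul_mem h3 (hTk _ _ _ ha hw hw)) hw).add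
    (IsK.smul (neg_mem (hTk _ _ _ hw hw hw)) ha)

/-- a linear form vanishing on a subspace but not at a given vector outside it -/
theorem exists_form {V : Type*} [AddCommGroup V] [Module K V] (W : Submodule K V) {x : V}
    (hx : x ∉ W) : ∃ μ : V →ₗ[K] K, (∀ w ∈ W, μ w = 0) ∧ μ x ≠ 0 := by
  obtain ⟨f, hf, hW⟩ := Submodule.exists_le_ker_of_notMem hx
  exact ⟨f, fun w hw => hW hw, hf⟩

theorem exists_mem_of_finrank_lt {V : Type*} [AddCommGroup V] [Module K V]
    [FiniteDimensional K V] {W H : Submodule K V} (h : finrank K W < finrank K H) :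
    ∃ x ∈ H, x ∉ W := by
  by_contra hc
  push Not at hc
  exact absurd (Submodule.finrank_mono (show H ≤ W from hc)) (by omega)

theorem finrank4 : finrank K (Fin 4 → K) = 4 := by simp

variable [CharZero K] [IsAlgClosed K]

/-- At a smooth non-`T`-point the quadratic form of the tangent section is non-zero. -/
theorem gen_quad (hT : IsSym3 T) {a : Fin 4 → K} (ha : T a a a = 0) (hs : T a a ≠ 0)
    (hNT : NT T a) : Gen (LinearMap.ker (T a a)) (fun v => T a v v ≠ 0) := by
  have ha0 : a ≠ 0 := by rintro rfl; simp at hs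
  refine Gen.of_pf (pf2' hT a) ?_
  obtain ⟨h, hh, hha⟩ : ∃ x ∈ LinearMap.ker (T a a), x ∉ Submodule.span K {a} :=
    exists_mem_of_finrank_lt (by
      rw [finrank_span_singleton ha0, ker_finrank finrank4 hs]; norm_num)
  obtain ⟨μ, hμ, hμh⟩ := exists_form _ hha
  obtain ⟨w, hw, hw'⟩ := hNT.exists_ne hT finrank4 ha hs μ ⟨h, hh, hμh⟩
  refine ⟨w, hw, fun h0 => hw' ?_⟩
  rw [map_tan, h0, hμ a (Submodule.mem_span_singleton_self a)]
  ring

theorem gen_tan_ne (hT : IsSym3 T) {a : Fin 4 → K} (ha : T a a a = 0) (hs : T a a ≠ 0)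
    (hNT : NT T a) (μ : (Fin 4 → K) →ₗ[K] K) (hμ : ∃ h, T a a h = 0 ∧ μ h ≠ 0) :
    Gen (LinearMap.ker (T a a)) (fun v => μ (Basic.tan T a v) ≠ 0) := by
  obtain ⟨h, hh, hμh⟩ := hμ
  exact Gen.of_pf (pf_map_tan hT μ a) (hNT.exists_ne hT finrank4 ha hs μ ⟨h, by simpa using hh, hμh⟩)

theorem gen_tan_notMem (hT : IsSym3 T) {a : Fin 4 → K} (ha : T a a a = 0) (hs : T a a ≠ 0)
    (hNT : NT T a) (W : Submodule K (Fin 4 → K)) (hW : finrank K W ≤ 2) :
    Gen (LinearMap.ker (T a a)) (fun v => Basic.tan T a v ∉ W) := by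
  obtain ⟨h, hh, hhW⟩ : ∃ x ∈ LinearMap.ker (T a a), x ∉ W :=
    exists_mem_of_finrank_lt (by rw [ker_finrank finrank4 hs]; omega)
  obtain ⟨μ, hμ, hμh⟩ := exists_form _ hhW
  exact (gen_tan_ne hT ha hs hNT μ ⟨h, by simpa using hh, hμh⟩).mono
    fun v _ hv hvW => hv (hμ _ hvW)

theorem gen_tangent_moves (hT : IsSym3 T) {a : Fin 4 → K} (ha : T a a a = 0) (hs : T a a ≠ 0)
    (hNT : NT T a) (l : (Fin 4 → K) →ₗ[K] K) (hl : l ≠ 0) :
    Gen (LinearMap.ker (T a a)) (fun v => ∃ h, T (Basic.tan T a v) (Basic.tan T a v) h = 0 ∧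
      l h ≠ 0) := by
  have : Infinite K := Infinite.of_injective (Nat.cast : ℕ → K) Nat.cast_injective
  have h9 : (9 : K) ≠ 0 := by norm_num
  have key : ∃ v ∈ LinearMap.ker (T a a), ∃ u u' : Fin 4 → K,
      T (Basic.tan T a v) (Basic.tan T a v) u * l u' -
        T (Basic.tan T a v) (Basic.tan T a v) u' * l u ≠ 0 := by
    by_contra hc
    push Not at hc
    by_cases hlH : ∃ h, T a a h = 0 ∧ l h ≠ 0
    · obtain ⟨v, hv, hv1, hv2⟩ := ((gen_quad hT ha hs hNT).and
        (gen_tan_ne hT ha hs hNT l hlH)).exists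
      have h1 := hc v hv (Basic.tan T a v) a
      rw [tan_cube hT ha (by simpa using hv), tan_sq_self hT ha (by simpa using hv), zero_mul,
        zero_sub, neg_eq_zero] at h1
      exact mul_ne_zero (mul_ne_zero h9 (pow_ne_zero 3 hv1)) hv2 h1
    · push Not at hlH
      obtain ⟨v, hv, hv1⟩ := (gen_quad hT ha hs hNT).exists
      apply hl
      refine LinearMap.ext fun u => ?_
      have h1 := hc v hv u a
      rw [hlH a ha, tan_sq_self hT ha (by simpa using hv), mul_zero, zero_sub, neg_eq_zero] at h1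
      exact (mul_eq_zero.mp h1).resolve_left (mul_ne_zero h9 (pow_ne_zero 3 hv1))
  obtain ⟨v, hv, u, u', h⟩ := key
  refine ⟨fun v => T (Basic.tan T a v) (Basic.tan T a v) u * l u' -
        T (Basic.tan T a v) (Basic.tan T a v) u' * l u,
    ((pf_tan_sq hT a u).mul (PF.const _)).sub ((pf_tan_sq hT a u').mul (PF.const _)),
    ⟨v, hv, h⟩, fun w _ hw => ?_⟩
  refine ⟨T (Basic.tan T a w) (Basic.tan T a w) u • u' -
    T (Basic.tan T a w) (Basic.tan T a w) u' • u, ?_, ?_⟩
  · rw [map_sub, map_smul, map_smul, smul_eq_mul, smul_eq_mul]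
    ring
  · rw [map_sub, map_smul, map_smul, smul_eq_mul, smul_eq_mul]
    exact hw

/-- Rational points outside finitely many planes, from a smooth non-`T`-point. -/
theorem avoid_smooth [Infinite k] (hT : IsSym3 T) (hTk : TriK k T) {a : Fin 4 → K}
    (haK : IsK k a) (ha : T a a a = 0) (hs : T a a ≠ 0) (hNT : NT T a)
    (S : Finset (Submodule K (Fin 4 → K))) (hS : ∀ W ∈ S, finrank K W ≤ 2)
    (hTp : ∀ b, T a a b = 0 → T b b b = 0 → T b b ≠ 0 → ¬ NT T b → ∃ W ∈ S, b ∈ W)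
    (L : Finset ((Fin 4 → K) →ₗ[K] K)) (hL : ∀ l ∈ L, l ≠ 0) :
    ∃ p, IsK k p ∧ T p p p = 0 ∧ ∀ l ∈ L, l p ≠ 0 := by
  have : Infinite K := Infinite.of_injective (Nat.cast : ℕ → K) Nat.cast_injective
  have h9 : (9 : K) ≠ 0 := by norm_num
  have hform : ∀ b : Fin 4 → K, IsK k b → FormK k (T b b) := fun b hb x hx => hTk _ _ _ hb hb hx
  obtain ⟨v, hv, hvK, hv1, hv2, hv3⟩ := exists_kpt (hform a haK)
    ((gen_quad hT ha hs hNT).and ((Gen.finset S _ fun W hW =>
      gen_tan_notMem hT ha hs hNT W (hS W hW)).and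
      (Gen.finset L _ fun l hl => gen_tangent_moves hT ha hs hNT l (hL l hl))))
  set b := Basic.tan T a v with hb
  have hbK : IsK k b := IsK.tan hTk haK hvK
  have hav : T a a v = 0 := by simpa using hv
  have hb0 : T b b b = 0 := tan_cube hT ha hav
  have hbs : T b b ≠ 0 := by
    intro h0
    have h1 : T b b a = 9 * T a v v ^ 3 := tan_sq_self hT ha hav
    rw [h0, LinearMap.zero_apply] at h1
    exact mul_ne_zero h9 (pow_ne_zero 3 hv1) h1.symm
  have hbNT : NT T b := by
    by_contra hc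
    obtain ⟨W, hW, hbW⟩ := hTp b (by rw [hb, map_tan, hav, ha]; ring) hb0 hbs hc
    exact hv2 W hW hbW
  obtain ⟨w, hw, hwK, hw1⟩ := exists_kpt (hform b hbK)
    (Gen.finset L (fun l x => l (Basic.tan T b x) ≠ 0) fun l hl =>
      gen_tan_ne hT hb0 hbs hbNT l (hv3 l hl))
  exact ⟨Basic.tan T b w, IsK.tan hTk hbK hwK, tan_cube hT hb0 (by simpa using hw), hw1⟩

/-- Rational points outside finitely many planes, from a singular point. -/
theorem avoid_sing [Infinite k] (hT : IsSym3 T) (hTk : TriK k T) {a : Fin 4 → K}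
    (haK : IsK k a) (ha0 : a ≠ 0) (hs : T a a = 0)
    (hcone : ∀ v, v ≠ 0 → ∃ x y, T v x y ≠ 0)
    (hirr : ∀ φ : (Fin 4 → K) →ₗ[K] K, φ ≠ 0 → ∃ v, φ v = 0 ∧ T v v v ≠ 0)
    (L : Finset ((Fin 4 → K) →ₗ[K] K)) (hL : ∀ l ∈ L, l ≠ 0) :
    ∃ p, IsK k p ∧ T p p p = 0 ∧ ∀ l ∈ L, l p ≠ 0 := by
  have : Infinite K := Infinite.of_injective (Nat.cast : ℕ → K) Nat.cast_injective
  have h3 : (3 : K) ≠ 0 := by norm_num
  have h2 : (2 : K) ≠ 0 := by norm_num
  have haa : ∀ w, T a a w = 0 := fun w => by rw [hs]; rfl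
  have hq : ∃ v ∈ LinearMap.ker (0 : (Fin 4 → K) →ₗ[K] K), T a v v ≠ 0 := by
    by_contra hc
    push Not at hc
    obtain ⟨x, y, hxy⟩ := hcone a ha0
    apply hxy
    have e1 := hc (x + y) (by simp)
    simp only [map_add, LinearMap.add_apply] at e1
    rw [hc x (by simp), hc y (by simp), hT.s23 a y x] at e1
    have : 2 * T a x y = 0 := by linear_combination e1
    exact (mul_eq_zero.mp this).resolve_left h2
  have hgen : ∀ l ∈ L, Gen (LinearMap.ker (0 : (Fin 4 → K) →ₗ[K] K))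
      (fun v => l (Basic.tan T a v) ≠ 0) := by
    intro l hl
    refine Gen.of_pf (pf_map_tan hT l a) ?_
    by_contra hc
    push Not at hc
    have hc' : ∀ w, 3 * T a w w * l w - T w w w * l a = 0 := fun w => by
      rw [← map_tan]; exact hc w (by simp)
    by_cases hla : l a = 0
    · obtain ⟨v, hv, hv'⟩ := hq
      obtain ⟨x, hx⟩ : ∃ x, l x ≠ 0 := by
        by_contra h0
        push Not at h0
        exact hL l hl (LinearMap.ext h0)
      obtain ⟨z, -, hz1, hz2⟩ := (pf2' hT a).exists_ne₂ (PF.lin l) _ hv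
        (show x ∈ LinearMap.ker (0 : (Fin 4 → K) →ₗ[K] K) by simp) hv' hx
      have := hc' z
      rw [hla, mul_zero, sub_zero] at this
      exact mul_ne_zero (mul_ne_zero h3 hz1) hz2 this
    · obtain ⟨v, hv, hv'⟩ := hirr l (hL l hl)
      have := hc' v
      rw [hv, mul_zero, zero_sub, neg_eq_zero] at this
      exact mul_ne_zero hv' hla this
  have hzero : FormK k (0 : (Fin 4 → K) →ₗ[K] K) := fun _ _ => zero_mem _
  obtain ⟨v, -, hvK, hv⟩ := exists_kpt hzero (Gen.finset L _ hgen)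
  exact ⟨Basic.tan T a v, IsK.tan hTk haK hvK, tan_cube hT (haa a) (haa v), hv⟩

end K752.Avoid
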