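import Mathlib

set_option autoImplicit false
set_option linter.dupNamespace false

/-! Functions on a vector space which are polynomial along every line, and existence of rational
points where finitely many of them do not vanish. -/

namespace K752.PF

open Polynomial

universe u v w

variable {K : Type u} [Field K] {W : Type v} [AddCommGroup W] [Module K W]

/-- A function which is polynomial along every (affine) line. -/
def PF (g : W → K) : Prop := ∀ x y : W, ∃ P : K[X], ∀ t : K, g (x + t • y) = P.eval t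

theorem PF.const (c : K) : PF (fun _ : W => c) := fun _ _ => ⟨C c, fun t => by simp⟩

theorem PF.lin (φ : W →ₗ[K] K) : PF (fun x => φ x) := fun x y =>
  ⟨C (φ x) + C (φ y) * X, fun t => by
    change φ (x + t • y) = _
    rw [map_add, map_smul, smul_eq_mul, eval_add, eval_C, eval_mul, eval_C, eval_X, mul_comm]⟩

theorem PF.add {f g : W → K} (hf : PF f) (hg : PF g) : PF (fun x => f x + g x) := fun x y => by
  obtain ⟨P, hP⟩ := hf x y
  obtain ⟨Q, hQ⟩ := hg x y
  exact ⟨P + Q, fun t => by simp [hP, hQ]⟩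

theorem PF.mul {f g : W → K} (hf : PF f) (hg : PF g) : PF (fun x => f x * g x) := fun x y => by
  obtain ⟨P, hP⟩ := hf x y
  obtain ⟨Q, hQ⟩ := hg x y
  exact ⟨P * Q, fun t => by simp [hP, hQ]⟩

theorem PF.neg {f : W → K} (hf : PF f) : PF (fun x => - f x) := fun x y => by
  obtain ⟨P, hP⟩ := hf x y
  exact ⟨-P, fun t => by simp [hP]⟩

theorem PF.sub {f g : W → K} (hf : PF f) (hg : PF g) : PF (fun x => f x - g x) := by
  simpa only [sub_eq_add_neg] using hf.add hg.neg

theorem PF.pow {f : W → K} (hf : PF f) (n : ℕ) : PF (fun x => f x ^ n) := fun x y => by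
  obtain ⟨P, hP⟩ := hf x y
  exact ⟨P ^ n, fun t => by simp [hP]⟩

theorem PF.prod {ι : Type w} (s : Finset ι) (g : ι → W → K) (h : ∀ i ∈ s, PF (g i)) :
    PF (fun x => ∏ i ∈ s, g i x) := by
  classical
  induction s using Finset.induction_on with
  | empty => simpa using PF.const (W := W) (1 : K)
  | insert i s hi ih =>
    have h1 := (h i (Finset.mem_insert_self i s)).mul
      (ih fun j hj => h j (Finset.mem_insert_of_mem hj))
    simpa only [Finset.prod_insert hi] using h1

/-- Two functions, each non-zero somewhere on `H`, are simultaneously non-zero somewhere on `H`. -/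
theorem PF.exists_ne₂ [Infinite K] {f g : W → K} (hf : PF f) (hg : PF g) (H : Submodule K W)
    {x y : W} (hx : x ∈ H) (hy : y ∈ H) (hfx : f x ≠ 0) (hgy : g y ≠ 0) :
    ∃ z ∈ H, f z ≠ 0 ∧ g z ≠ 0 := by
  obtain ⟨P, hP⟩ := hf x (y - x)
  obtain ⟨Q, hQ⟩ := hg x (y - x)
  have hP0 : P ≠ 0 := by
    rintro rfl
    apply hfx
    have := hP 0
    simpa using this
  have hQ0 : Q ≠ 0 := by
    rintro rfl
    apply hgy
    have := hQ 1
    simpa using this
  obtain ⟨t, ht⟩ : ∃ t, (P * Q).eval t ≠ 0 := by
    by_contra hc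
    push Not at hc
    exact mul_ne_zero hP0 hQ0 (Polynomial.funext fun t => by simpa using hc t)
  rw [eval_mul] at ht
  refine ⟨x + t • (y - x), H.add_mem hx (H.smul_mem t (H.sub_mem hy hx)), ?_, ?_⟩
  · rw [hP]; exact left_ne_zero_of_mul ht
  · rw [hQ]; exact right_ne_zero_of_mul ht

theorem PF.exists_ne_finset [Infinite K] {ι : Type w} (s : Finset ι) (g : ι → W → K)
    (hg : ∀ i ∈ s, PF (g i)) (H : Submodule K W) (hne : ∀ i ∈ s, ∃ x ∈ H, g i x ≠ 0) :
    ∃ z ∈ H, ∀ i ∈ s, g i z ≠ 0 := by
  classical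
  induction s using Finset.induction_on with
  | empty => exact ⟨0, H.zero_mem, by simp⟩
  | insert i s hi ih =>
    obtain ⟨z, hz, hzs⟩ := ih (fun j hj => hg j (Finset.mem_insert_of_mem hj))
      (fun j hj => hne j (Finset.mem_insert_of_mem hj))
    obtain ⟨x, hx, hxi⟩ := hne i (Finset.mem_insert_self i s)
    obtain ⟨y, hy, hy1, hy2⟩ := (hg i (Finset.mem_insert_self i s)).exists_ne₂
      (PF.prod s g fun j hj => hg j (Finset.mem_insert_of_mem hj)) H hx hz hxi
      (Finset.prod_ne_zero_iff.mpr hzs)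
    refine ⟨y, hy, fun j hj => ?_⟩
    rcases Finset.mem_insert.mp hj with rfl | hj
    · exact hy1
    · exact (Finset.prod_ne_zero_iff.mp hy2) j hj

/-- A property which holds on `H` wherever a certain polynomial function, not identically zero on
`H`, does not vanish. -/
def Gen (H : Submodule K W) (P : W → Prop) : Prop :=
  ∃ g : W → K, PF g ∧ (∃ x ∈ H, g x ≠ 0) ∧ ∀ x ∈ H, g x ≠ 0 → P x

theorem Gen.of_pf {H : Submodule K W} {g : W → K} (hg : PF g) (h : ∃ x ∈ H, g x ≠ 0) :
    Gen H (fun x => g x ≠ 0) := ⟨g, hg, h, fun _ _ h => h⟩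

theorem Gen.mono {H : Submodule K W} {P Q : W → Prop} (h : Gen H P) (hPQ : ∀ x ∈ H, P x → Q x) :
    Gen H Q := by
  obtain ⟨g, hg, hx, hP⟩ := h
  exact ⟨g, hg, hx, fun x hx h => hPQ x hx (hP x hx h)⟩

theorem Gen.and [Infinite K] {H : Submodule K W} {P Q : W → Prop} (h : Gen H P) (h' : Gen H Q) :
    Gen H (fun x => P x ∧ Q x) := by
  obtain ⟨g, hg, ⟨x, hx, hgx⟩, hP⟩ := h
  obtain ⟨g', hg', ⟨x', hx', hgx'⟩, hQ⟩ := h'
  obtain ⟨z, hz, h1, h2⟩ := hg.exists_ne₂ hg' H hx hx' hgx hgx'
  exact ⟨fun x => g x * g' x, hg.mul hg', ⟨z, hz, mul_ne_zero h1 h2⟩, fun x hx h =>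
    ⟨hP x hx (left_ne_zero_of_mul h), hQ x hx (right_ne_zero_of_mul h)⟩⟩

theorem Gen.finset [Infinite K] {H : Submodule K W} {ι : Type w} (s : Finset ι)
    (P : ι → W → Prop) (h : ∀ i ∈ s, Gen H (P i)) : Gen H (fun x => ∀ i ∈ s, P i x) := by
  classical
  induction s using Finset.induction_on with
  | empty => exact ⟨fun _ => 1, PF.const 1, ⟨0, H.zero_mem, one_ne_zero⟩, by simp⟩
  | insert i s hi ih =>
    have h1 := (h i (Finset.mem_insert_self i s)).and
      (ih fun j hj => h j (Finset.mem_insert_of_mem hj))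
    refine h1.mono fun x _ hx j hj => ?_
    rcases Finset.mem_insert.mp hj with rfl | hj
    · exact hx.1
    · exact hx.2 j hj

theorem Gen.exists {H : Submodule K W} {P : W → Prop} (h : Gen H P) : ∃ x ∈ H, P x := by
  obtain ⟨g, -, ⟨x, hx, hgx⟩, hP⟩ := h
  exact ⟨x, hx, hP x hx hgx⟩

/-- Replacing coefficients in `K` by coefficients in an infinite subfield `k`. -/
theorem PF.exists_kpt {k : Type*} [Field k] [Infinite k] [Algebra k K] {ι : Type*} [Fintype ι]
    (b : ι → W) {g : W → K} (hg : PF g) (c : ι → K) (h : g (∑ i, c i • b i) ≠ 0) :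
    ∃ c' : ι → k, g (∑ i, algebraMap k K (c' i) • b i) ≠ 0 := by
  classical
  by_contra hc
  push Not at hc
  have key : ∀ s : Finset ι, ∀ c : ι → K, ∀ c' : ι → k,
      g (∑ i ∈ s, c i • b i + ∑ i, algebraMap k K (c' i) • b i) = 0 := by
    intro s
    induction s using Finset.induction_on with
    | empty => intro c c'; simpa using hc c'
    | insert j s hj ih =>
      intro c c'
      obtain ⟨P, hP⟩ := hg (∑ i ∈ s, c i • b i + ∑ i, algebraMap k K (c' i) • b i) (b j)
      have hP0 : P = 0 := by
        apply Polynomial.eq_zero_of_infinite_isRoot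
        refine Set.Infinite.mono ?_ (Set.infinite_range_of_injective
          (algebraMap k K).injective)
        rintro _ ⟨t, rfl⟩
        change P.IsRoot _
        rw [Polynomial.IsRoot, ← hP]
        have e := ih c (c' + Pi.single j t)
        rw [← e]
        congr 1
        rw [add_assoc]
        congr 1
        simp only [Pi.add_apply, map_add, add_smul, Finset.sum_add_distrib]
        congr 1
        rw [Finset.sum_eq_single j]
        · simp
        · intro i _ hij
          simp [Pi.single_eq_of_ne hij]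
        · simp
      have e2 := hP (c j)
      rw [hP0, eval_zero] at e2
      rw [Finset.sum_insert hj, ← e2]
      congr 1
      abel
  apply h
  have := key Finset.univ c 0
  simpa using this

end K752.PF
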