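import Groth.Agent.Cubic.K656.Trilin
import Groth.Agent.Cubic.K752.PF
import Mathlib

set_option autoImplicit false

/-! Tangent sections of a cubic hypersurface given by a symmetric trilinear form. -/

namespace K752.Basic

open K656.Trilin K752.PF Module

universe u v

variable {K : Type u} [Field K]

theorem split2 [IsAlgClosed K] (α β γ : K) : ∃ p₁ q₁ p₂ q₂ : K, ∀ y z : K,
    α * y ^ 2 + β * (y * z) + γ * z ^ 2 = (p₁ * y + q₁ * z) * (p₂ * y + q₂ * z) := by
  by_cases hα : α = 0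
  · exact ⟨0, 1, β, γ, fun y z => by rw [hα]; ring⟩
  · obtain ⟨r, hr⟩ := IsAlgClosed.exists_root
      (Polynomial.C α * Polynomial.X ^ 2 + Polynomial.C β * Polynomial.X + Polynomial.C γ)
      (by rw [Polynomial.degree_quadratic hα]; norm_num)
    have hr' : α * r ^ 2 + β * r + γ = 0 := by
      simpa [Polynomial.IsRoot] using hr
    refine ⟨1, -r, α, β + α * r, fun y z => ?_⟩
    linear_combination (z ^ 2) * hr'

theorem split3 [IsAlgClosed K] (α β γ δ : K) : ∃ p₁ q₁ p₂ q₂ p₃ q₃ : K, ∀ y z : K,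
    α * y ^ 3 + β * (y ^ 2 * z) + γ * (y * z ^ 2) + δ * z ^ 3 =
      (p₁ * y + q₁ * z) * (p₂ * y + q₂ * z) * (p₃ * y + q₃ * z) := by
  by_cases hα : α = 0
  · obtain ⟨p₁, q₁, p₂, q₂, h⟩ := split2 β γ δ
    refine ⟨0, 1, p₁, q₁, p₂, q₂, fun y z => ?_⟩
    rw [hα, mul_assoc (0 * y + 1 * z), ← h]; ring
  · obtain ⟨r, hr⟩ := IsAlgClosed.exists_root
      (Polynomial.C α * Polynomial.X ^ 3 + Polynomial.C β * Polynomial.X ^ 2 +
        Polynomial.C γ * Polynomial.X + Polynomial.C δ)
      (by rw [Polynomial.degree_cubic hα]; norm_num)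
    have hr' : α * r ^ 3 + β * r ^ 2 + γ * r + δ = 0 := by
      simpa [Polynomial.IsRoot] using hr
    obtain ⟨p₁, q₁, p₂, q₂, h⟩ := split2 α (β + α * r) (γ + β * r + α * r ^ 2)
    refine ⟨1, -r, p₁, q₁, p₂, q₂, fun y z => ?_⟩
    rw [mul_assoc (1 * y + -r * z), ← h]
    linear_combination (z ^ 3) * hr'

variable {V : Type v} [AddCommGroup V] [Module K V] {T : V →ₗ[K] V →ₗ[K] V →ₗ[K] K}

theorem pf3 (hT : IsSym3 T) : PF (fun v => T v v v) := fun x y =>
  ⟨Polynomial.C (T x x x) + Polynomial.C (3 * T x x y) * Polynomial.X +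
    Polynomial.C (3 * T x y y) * Polynomial.X ^ 2 + Polynomial.C (T y y y) * Polynomial.X ^ 3,
    fun t => by
      have := hT.cube_add_smul x y t
      simp only [this, Polynomial.eval_add, Polynomial.eval_mul, Polynomial.eval_C,
        Polynomial.eval_X, Polynomial.eval_pow]
      ring⟩

theorem pf2 (hT : IsSym3 T) (u : V) : PF (fun v => T v v u) := fun x y =>
  ⟨Polynomial.C (T x x u) + Polynomial.C (2 * T x y u) * Polynomial.X +
    Polynomial.C (T y y u) * Polynomial.X ^ 2, fun t => by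
      have := hT.sq_add_smul x y u t
      simp only [this, Polynomial.eval_add, Polynomial.eval_mul, Polynomial.eval_C,
        Polynomial.eval_X, Polynomial.eval_pow]
      ring⟩

theorem pf2' (hT : IsSym3 T) (u : V) : PF (fun v => T u v v) := by
  have := pf2 hT u
  have e : (fun v => T v v u) = (fun v => T u v v) := by
    funext v; rw [hT.rot' v v u]
  rwa [e] at this

theorem pf1 (u w : V) : PF (fun v => T u w v) := PF.lin (T u w)

/-- `P_a(w)`: the residual intersection of the line through `a` and `w` with the cubic. -/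
def tan (T : V →ₗ[K] V →ₗ[K] V →ₗ[K] K) (a w : V) : V := (3 * T a w w) • w + (-T w w w) • a

theorem tan_cube (hT : IsSym3 T) {a w : V} (ha : T a a a = 0) (hw : T a a w = 0) :
    T (tan T a w) (tan T a w) (tan T a w) = 0 := by
  unfold tan
  rw [hT.cube_smul_add_smul, ha, hT.rot' w a a, hT.s23 a w a, hw, hT.rot' w w a]
  ring

theorem tan_sq (hT : IsSym3 T) (a w u : V) : T (tan T a w) (tan T a w) u =
    9 * T a w w ^ 2 * T w w u - 6 * T a w w * T w w w * T w a u + T w w w ^ 2 * T a a u := by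
  unfold tan
  rw [hT.sq_smul_add_smul]
  ring

theorem tan_sq_self (hT : IsSym3 T) {a w : V} (ha : T a a a = 0) (hw : T a a w = 0) :
    T (tan T a w) (tan T a w) a = 9 * T a w w ^ 3 := by
  rw [tan_sq hT, ha, hT.rot' w a a, hT.s23 a w a, hw, hT.rot' w w a]
  ring

theorem map_tan (μ : V →ₗ[K] K) (a w : V) :
    μ (tan T a w) = 3 * T a w w * μ w - T w w w * μ a := by
  unfold tan
  rw [map_add, map_smul, map_smul, smul_eq_mul, smul_eq_mul]
  ring

theorem pf_map_tan (hT : IsSym3 T) (μ : V →ₗ[K] K) (a : V) : PF (fun w => μ (tan T a w)) := by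
  have h : (fun w => μ (tan T a w)) = fun w => 3 * T a w w * μ w - T w w w * μ a := by
    funext w; exact map_tan μ a w
  rw [h]
  exact (((PF.const 3).mul (pf2' hT a)).mul (PF.lin μ)).sub ((pf3 hT).mul (PF.const _))

theorem pf_tan_sq (hT : IsSym3 T) (a u : V) : PF (fun w => T (tan T a w) (tan T a w) u) := by
  have h : (fun w => T (tan T a w) (tan T a w) u) = fun w =>
      9 * T a w w ^ 2 * T w w u - 6 * T a w w * T w w w * T a u w + T w w w ^ 2 * T a a u := by
    funext w
    rw [tan_sq hT, ← hT.rot' a u w]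
  rw [h]
  exact ((((PF.const 9).mul ((pf2' hT a).pow 2)).mul (pf2 hT u)).sub
    ((((PF.const 6).mul (pf2' hT a)).mul (pf3 hT)).mul (pf1 a u))).add
    (((pf3 hT).pow 2).mul (PF.const _))

/-- `a` is not a `T`-point. -/
def NT (T : V →ₗ[K] V →ₗ[K] V →ₗ[K] K) (a : V) : Prop :=
  ¬ ∃ m₁ m₂ m₃ : V →ₗ[K] K, ∀ w, T a a w = 0 → T w w w = m₁ w * m₂ w * m₃ w

theorem exists_not_mem_span [FiniteDimensional K V] {n : ℕ} (v : Fin n → V)
    (hn : n < finrank K V) : ∃ x, x ∉ Submodule.span K (Set.range v) := by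
  by_contra hc
  push Not at hc
  have h1 : Submodule.span K (Set.range v) = ⊤ := by
    rw [eq_top_iff]; exact fun x _ => hc x
  have h2 := finrank_range_le_card (R := K) v
  rw [Set.finrank, h1, finrank_top, Fintype.card_fin] at h2
  omega

/-- coordinates on a 3-dimensional subspace, starting with a given vector -/
theorem basis3 [FiniteDimensional K V] (H : Submodule K V) (hH : finrank K H = 3) {a : V}
    (ha : a ∈ H) (ha0 : a ≠ 0) : ∃ e ∈ H, ∃ f ∈ H, ∃ X Y Z : V →ₗ[K] K,
      ∀ w ∈ H, w = X w • a + Y w • e + Z w • f := by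
  set a' : H := ⟨a, ha⟩ with ha'
  have hli1 : LinearIndependent K ![a'] := by
    rw [linearIndependent_unique_iff]
    simpa [ha', Subtype.ext_iff] using ha0
  obtain ⟨e, he⟩ := exists_not_mem_span ![a'] (by rw [hH]; norm_num)
  have hli2 : LinearIndependent K ![e, a'] := linearIndependent_finCons.mpr ⟨hli1, he⟩
  obtain ⟨f, hf⟩ := exists_not_mem_span ![e, a'] (by rw [hH]; norm_num)
  have hli3 : LinearIndependent K ![f, e, a'] := linearIndependent_finCons.mpr ⟨hli2, hf⟩
  set b := basisOfLinearIndependentOfCardEqFinrank hli3 (by rw [hH]; rfl) with hb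
  obtain ⟨Z, hZ⟩ := LinearMap.exists_extend (b.coord 0)
  obtain ⟨Y, hY⟩ := LinearMap.exists_extend (b.coord 1)
  obtain ⟨X, hX⟩ := LinearMap.exists_extend (b.coord 2)
  refine ⟨e, e.2, f, f.2, X, Y, Z, fun w hw => ?_⟩
  have h1 : X w = b.coord 2 ⟨w, hw⟩ := by rw [← hX]; rfl
  have h2 : Y w = b.coord 1 ⟨w, hw⟩ := by rw [← hY]; rfl
  have h3 : Z w = b.coord 0 ⟨w, hw⟩ := by rw [← hZ]; rfl
  have h4 := b.sum_repr ⟨w, hw⟩
  rw [Fin.sum_univ_three] at h4
  have h5 := congrArg Subtype.val h4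
  rw [h1, h2, h3]
  have hb0 : b 0 = f := by rw [hb, coe_basisOfLinearIndependentOfCardEqFinrank]; rfl
  have hb1 : b 1 = e := by rw [hb, coe_basisOfLinearIndependentOfCardEqFinrank]; rfl
  have hb2 : b 2 = a' := by rw [hb, coe_basisOfLinearIndependentOfCardEqFinrank]; rfl
  rw [hb0, hb1, hb2] at h5
  simp only [Submodule.coe_add, Submodule.coe_smul] at h5
  conv_lhs => rw [← h5]
  simp only [Basis.coord_apply]
  rw [add_assoc, add_comm, add_comm _ (((b.repr ⟨w, hw⟩) 1) • (e : V))]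

theorem ker_finrank [FiniteDimensional K V] (hV : finrank K V = 4) {φ : V →ₗ[K] K} (hφ : φ ≠ 0) :
    finrank K (LinearMap.ker φ) = 3 := by
  have h1 := LinearMap.finrank_range_add_finrank_ker φ
  have h2 : LinearMap.range φ = ⊤ := by
    rw [LinearMap.range_eq_top]
    exact LinearMap.surjective_of_ne_zero hφ
  rw [h2, finrank_top, finrank_self] at h1
  omega

/-- Lemma N: the residual map `P_a` of a smooth non-`T`-point is not contained in a hyperplane
other than the tangent one. -/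
theorem NT.exists_ne [IsAlgClosed K] [CharZero K] [FiniteDimensional K V]
    (hT : IsSym3 T) (hV : finrank K V = 4) {a : V}
    (ha : T a a a = 0) (hs : T a a ≠ 0) (hNT : NT T a) (μ : V →ₗ[K] K)
    (hμ : ∃ h ∈ LinearMap.ker (T a a), μ h ≠ 0) :
    ∃ w ∈ LinearMap.ker (T a a), μ (tan T a w) ≠ 0 := by
  have ha0 : a ≠ 0 := by rintro rfl; simp at hs
  have hinf : Infinite K := Infinite.of_injective (Nat.cast : ℕ → K) Nat.cast_injective
  have h3 : (3 : K) ≠ 0 := by norm_num
  obtain ⟨e, he, f, hf, X, Y, Z, hXYZ⟩ := basis3 _ (ker_finrank hV hs) (a := a)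
    (by simpa using ha) ha0
  have he' : T a a e = 0 := by simpa using he
  have hf' : T a a f = 0 := by simpa using hf
  obtain ⟨p₁, q₁, p₂, q₂, h2⟩ := split2 (T a e e) (2 * T a e f) (T a f f)
  have hq : ∀ w, T a a w = 0 → T a w w = (p₁ • Y + q₁ • Z) w * (p₂ • Y + q₂ • Z) w := by
    intro w hw
    simp only [LinearMap.add_apply, LinearMap.smul_apply, smul_eq_mul]
    rw [← h2]
    conv_lhs => rw [hXYZ w (by simpa using hw)]
    simp only [map_add, map_smul, LinearMap.add_apply, LinearMap.smul_apply, smul_eq_mul, ha,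
      he', hf', hT.s23 a e a, hT.s23 a f a, hT.s23 a f e]
    ring
  by_contra hc
  push Not at hc
  have hc' : ∀ w, T a a w = 0 → 3 * T a w w * μ w - T w w w * μ a = 0 := by
    intro w hw
    rw [← map_tan]
    exact hc w (by simpa using hw)
  by_cases hμa : μ a = 0
  · by_cases hq0 : ∃ w₀ ∈ LinearMap.ker (T a a), T a w₀ w₀ ≠ 0
    · obtain ⟨w₀, hw₀, hw₀'⟩ := hq0
      obtain ⟨h₀, hh₀, hh₀'⟩ := hμ
      obtain ⟨z, hz, hz1, hz2⟩ := (pf2' hT a).exists_ne₂ (PF.lin μ) _ hw₀ hh₀ hw₀' hh₀'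
      have := hc' z (by simpa using hz)
      rw [hμa, mul_zero, sub_zero] at this
      exact mul_ne_zero (mul_ne_zero h3 hz1) hz2 this
    · push Not at hq0
      apply hNT
      obtain ⟨r₁, s₁, r₂, s₂, r₃, s₃, h3'⟩ := split3 (T e e e) (3 * T e e f) (3 * T e f f) (T f f f)
      refine ⟨r₁ • Y + s₁ • Z, r₂ • Y + s₂ • Z, r₃ • Y + s₃ • Z, fun w hw => ?_⟩
      simp only [LinearMap.add_apply, LinearMap.smul_apply, smul_eq_mul]
      rw [← h3']
      have e1 : w = (1 : K) • (Y w • e + Z w • f) + X w • a := by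
        conv_lhs => rw [hXYZ w (by simpa using hw)]
        rw [one_smul]; abel
      have hv : Y w • e + Z w • f ∈ LinearMap.ker (T a a) :=
        Submodule.add_mem _ (Submodule.smul_mem _ _ he) (Submodule.smul_mem _ _ hf)
      have hv1 : T a a (Y w • e + Z w • f) = 0 := by simpa using hv
      conv_lhs => rw [e1]
      rw [hT.cube_smul_add_smul, ha, hT.rot' _ a a, hT.s23 a _ a, hv1, hT.rot' _ _ a, hq0 _ hv,
        hT.cube_smul_add_smul]
      ring
  · apply hNT
    refine ⟨(3 * (μ a)⁻¹) • (p₁ • Y + q₁ • Z), p₂ • Y + q₂ • Z, μ, fun w hw => ?_⟩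
    have h4 := hc' w hw
    have h5 := hq w hw
    rw [LinearMap.smul_apply, smul_eq_mul, mul_assoc (3 * (μ a)⁻¹), ← h5]
    field_simp
    linear_combination -h4

end K752.Basic
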