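import Groth.Agent.Cubic.K752.Rep

set_option autoImplicit false
set_option linter.unusedSectionVars false

/-! Points of degree at most three which are not `T`-points. -/

namespace K752.Ext

open K656.Trilin K656.TPoint K656.Sing K752.Avoid K752.Sing K752.Rep Module MvPolynomial

universe u v w

section

variable {k : Type u} {K : Type v} [Field k] [Field K] [Algebra k K]

theorem sq_zero_iff [CharZero K] {F : MvPolynomial (Fin 4) K} (hF : F.IsHomogeneous 3)
    (v : Fin 4 → K) : tri F v v = 0 ↔ ∀ i, eval v (pderiv i F) = 0 := by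
  have := exists_pderiv_ne_zero_iff hF v
  constructor
  · intro h i
    by_contra hc
    obtain ⟨w, hw⟩ := this.mp ⟨i, hc⟩
    rw [h] at hw; exact hw rfl
  · intro h
    refine LinearMap.ext fun w => ?_
    by_contra hc
    obtain ⟨i, hi⟩ := this.mpr ⟨w, hc⟩
    exact hi (h i)

theorem galois_stable [CharZero k] [CharZero K] {F : MvPolynomial (Fin 4) k}
    (hF : F.IsHomogeneous 3)
    (σ : K ≃ₐ[k] K) (v : Fin 4 → K) (hv : tri (map (algebraMap k K) F) v v = 0) :
    tri (map (algebraMap k K) F) (fun i => σ (v i)) (fun i => σ (v i)) = 0 := by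
  have hF' := hF.map (algebraMap k K)
  rw [sq_zero_iff hF'] at hv ⊢
  intro i
  have h1 := congrArg σ (hv i)
  rw [pderiv_map, map_zero] at h1
  rw [pderiv_map, ← h1, eval_map, eval_map]
  have h2 : (σ : K →+* K) (eval₂ (algebraMap k K) v (pderiv i F)) =
      eval₂ ((σ : K →+* K).comp (algebraMap k K)) ((σ : K →+* K) ∘ v) (pderiv i F) :=
    eval₂_comp_left _ _ _ _
  have h3 : (σ : K →+* K).comp (algebraMap k K) = algebraMap k K := by
    ext x; simp
  rw [h3] at h2
  exact h2.symm

/-- A rational point which is not a `T`-point, or a rational line without `T`-points. -/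
theorem point_or_line [CharZero k] [CharZero K] [IsAlgClosed K] [IsGalois k K]
    {F : MvPolynomial (Fin 4) k} (hF : F.IsHomogeneous 3)
    (hN : NoPlane (tri (map (algebraMap k K) F))) (hC : NoCone (tri (map (algebraMap k K) F))) :
    (∃ a : Fin 4 → k, a ≠ 0 ∧ eval a F = 0 ∧
      ¬ TP (tri (map (algebraMap k K) F)) (inc k a)) ∨
    ∃ u w : Fin 4 → k, eval u F ≠ 0 ∧ ∀ t : K, t • (inc k u : Fin 4 → K) + inc k w ≠ 0 ∧
      ¬ TP (tri (map (algebraMap k K) F)) (t • (inc k u : Fin 4 → K) + inc k w) := by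
  have : Infinite k := Infinite.of_injective (Nat.cast : ℕ → k) Nat.cast_injective
  have hinc0 : ∀ v : Fin 4 → k, (inc k v : Fin 4 → K) ≠ 0 → v ≠ 0 := by
    rintro v hv rfl
    exact hv (by funext i; simp [inc])
  rcases Main.dichotomy (k := k) (tri_sym _) hN hC (galois_stable hF) with
    ⟨v, hv0, hvK, hv⟩ | ⟨S, hS, hTP⟩
  · left
    obtain ⟨a, rfl⟩ := IsK.exists hvK
    refine ⟨a, hinc0 a hv0, ?_, ?_⟩
    · have h1 := LinearMap.congr_fun hv (inc k a)
      rw [tri_map, tri_diag hF] at h1
      exact (map_eq_zero _).mp h1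
    · rintro ⟨-, -, ⟨w, hw⟩, -⟩
      rw [hv] at hw; exact hw rfl
  · right
    obtain ⟨u, w, hu, hw, huu, h⟩ := Main.exists_line (k := k) (tri_sym _) hN S hS
    obtain ⟨u, rfl⟩ := IsK.exists hu
    obtain ⟨w, rfl⟩ := IsK.exists hw
    refine ⟨u, w, ?_, fun t => ?_⟩
    · rw [tri_map, tri_diag hF] at huu
      exact fun h0 => huu (by rw [h0, map_zero])
    · obtain ⟨h1, h2⟩ := h t 1 (Or.inr one_ne_zero)
      rw [one_smul] at h1 h2
      refine ⟨h1, fun hc => ?_⟩
      obtain ⟨W, hW, hmem⟩ := hTP _ hc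
      exact h2 W hW hmem

/-- The cubic polynomial of a line. -/
noncomputable def linePoly (F : MvPolynomial (Fin 4) k) (u w : Fin 4 → k) : Polynomial k :=
  Polynomial.C (tri F u u u) * Polynomial.X ^ 3 +
    Polynomial.C (3 * tri F w u u) * Polynomial.X ^ 2 +
    Polynomial.C (3 * tri F w w u) * Polynomial.X + Polynomial.C (tri F w w w)

theorem linePoly_natDegree [CharZero k] {F : MvPolynomial (Fin 4) k} (hF : F.IsHomogeneous 3)
    {u w : Fin 4 → k} (hu : eval u F ≠ 0) : (linePoly F u w).natDegree = 3 := by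
  unfold linePoly
  exact Polynomial.natDegree_cubic (by rw [tri_diag hF]; exact hu)

theorem eval_linePoly {L : Type w} [Field L] [Algebra k L] [CharZero k] [CharZero L]
    {F : MvPolynomial (Fin 4) k}
    (hF : F.IsHomogeneous 3) (u w : Fin 4 → k) (r : L) :
    eval (r • (inc k u : Fin 4 → L) + inc k w) (map (algebraMap k L) F) =
      Polynomial.aeval r (linePoly F u w) := by
  rw [← tri_diag (hF.map _), add_comm, (tri_sym _).cube_add_smul, tri_map, tri_map, tri_map,
    tri_map]
  unfold linePoly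
  simp only [map_add, map_mul, map_pow, Polynomial.aeval_X, Polynomial.aeval_C, map_ofNat]
  ring

end

/-- Pfaffian representation over a field with a suitable point. -/
theorem rep_over {k : Type u} {E : Type v} {K : Type w} [Field k] [Field E] [Field K]
    [Algebra k E] [Algebra E K] [Algebra k K] [IsScalarTower k E K] [CharZero k] [CharZero E]
    [CharZero K] [IsAlgClosed K] {F : MvPolynomial (Fin 4) k} (hF : F.IsHomogeneous 3)
    (hN : NoPlane (tri (map (algebraMap k K) F))) (hC : NoCone (tri (map (algebraMap k K) F)))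
    {a : Fin 4 → E} (ha0 : a ≠ 0) (ha : eval a (map (algebraMap k E) F) = 0)
    (hTP : ¬ TP (tri (map (algebraMap k K) F)) (inc E a)) :
    ∃ M : Matrix (Fin 6) (Fin 6) (MvPolynomial (Fin 4) E), (∀ i j, (M i j).IsHomogeneous 1) ∧
      M.transpose = -M ∧ (∀ i, M i i = 0) ∧
        ∃ c : E, c ≠ 0 ∧ M.det = C c * (map (algebraMap k E) F) ^ 2 := by
  have e : map (algebraMap E K) (map (algebraMap k E) F) = map (algebraMap k K) F := by
    rw [map_map, ← IsScalarTower.algebraMap_eq]
  have hF' := hF.map (algebraMap k E)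
  obtain ⟨p, -, hp, hli⟩ := Rep.five (K := K) hF' (by rw [e]; exact hN) (by rw [e]; exact hC)
    ha0 ha (by rw [e]; exact hTP)
  exact Pfaff.main hF' p hp hli

/-- Pfaffian representation over a field with a root of the cubic polynomial of a line without
`T`-points. -/
theorem rep_line {k : Type u} {E : Type v} {K : Type w} [Field k] [Field E] [Field K]
    [Algebra k E] [Algebra E K] [Algebra k K] [IsScalarTower k E K] [CharZero k] [CharZero E]
    [CharZero K] [IsAlgClosed K] {F : MvPolynomial (Fin 4) k} (hF : F.IsHomogeneous 3)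
    (hN : NoPlane (tri (map (algebraMap k K) F))) (hC : NoCone (tri (map (algebraMap k K) F)))
    {u w : Fin 4 → k} (h : ∀ t : K, t • (inc k u : Fin 4 → K) + inc k w ≠ 0 ∧
      ¬ TP (tri (map (algebraMap k K) F)) (t • (inc k u : Fin 4 → K) + inc k w))
    {r : E} (hr : Polynomial.aeval r (linePoly F u w) = 0) :
    ∃ M : Matrix (Fin 6) (Fin 6) (MvPolynomial (Fin 4) E), (∀ i j, (M i j).IsHomogeneous 1) ∧
      M.transpose = -M ∧ (∀ i, M i i = 0) ∧
        ∃ c : E, c ≠ 0 ∧ M.det = C c * (map (algebraMap k E) F) ^ 2 := by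
  have e : (inc E (r • (inc k u : Fin 4 → E) + inc k w) : Fin 4 → K) =
      algebraMap E K r • (inc k u : Fin 4 → K) + inc k w := by
    funext i
    simp only [inc, Pi.add_apply, Pi.smul_apply, smul_eq_mul, map_add, map_mul,
      ← IsScalarTower.algebraMap_apply]
  refine rep_over (a := r • (inc k u : Fin 4 → E) + inc k w) hF hN hC ?_ ?_ ?_
  · intro h0
    apply (h (algebraMap E K r)).1
    rw [← e, h0]
    funext i
    simp [inc]
  · rw [eval_linePoly hF, hr]
  · rw [e]; exact (h _).2

/-- Pfaffian representation over an extension with a rational point which is not a `T`-point. -/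
theorem rep_point {k : Type u} {E : Type v} {K : Type w} [Field k] [Field E] [Field K]
    [Algebra k E] [Algebra E K] [Algebra k K] [IsScalarTower k E K] [CharZero k] [CharZero E]
    [CharZero K] [IsAlgClosed K] {F : MvPolynomial (Fin 4) k} (hF : F.IsHomogeneous 3)
    (hN : NoPlane (tri (map (algebraMap k K) F))) (hC : NoCone (tri (map (algebraMap k K) F)))
    {a : Fin 4 → k} (ha0 : a ≠ 0) (ha : eval a F = 0)
    (hTP : ¬ TP (tri (map (algebraMap k K) F)) (inc k a)) :
    ∃ M : Matrix (Fin 6) (Fin 6) (MvPolynomial (Fin 4) E), (∀ i j, (M i j).IsHomogeneous 1) ∧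
      M.transpose = -M ∧ (∀ i, M i i = 0) ∧
        ∃ c : E, c ≠ 0 ∧ M.det = C c * (map (algebraMap k E) F) ^ 2 := by
  have e : (inc E (inc k a : Fin 4 → E) : Fin 4 → K) = inc k a := by
    funext i
    simp only [inc, ← IsScalarTower.algebraMap_apply]
  refine rep_over (a := inc k a) hF hN hC (inc_ne_zero ha0) ?_ ?_
  · rw [eval_inc, ha, map_zero]
  · rw [e]; exact hTP

theorem finrank_adjoin_le {k : Type u} {L : Type v} [Field k] [Field L] [Algebra k L]
    {P : Polynomial k} (hP : P.natDegree = 3) {r : L} (hr : Polynomial.aeval r P = 0) :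
    FiniteDimensional k (IntermediateField.adjoin k {r}) ∧
      finrank k (IntermediateField.adjoin k {r}) ≤ 3 := by
  have hP0 : P ≠ 0 := by rintro rfl; simp at hP
  have hint : IsIntegral k r := (isAlgebraic_iff_isIntegral.mp ⟨P, hP0, hr⟩)
  refine ⟨IntermediateField.adjoin.finiteDimensional hint, ?_⟩
  rw [IntermediateField.adjoin.finrank hint, ← hP]
  exact Polynomial.natDegree_le_of_dvd (minpoly.dvd k r hr) hP0

/-- A real cubic polynomial has a real root. -/
theorem exists_real_root {P : Polynomial ℝ} (hP : P.natDegree = 3) : ∃ r, P.IsRoot r := by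
  have key : ∀ Q : Polynomial ℝ, Q.natDegree = 3 → 0 ≤ Q.leadingCoeff → ∃ x, 0 ≤ Q.eval x := by
    intro Q hQ hl
    have h1 := Q.tendsto_atTop_of_leadingCoeff_nonneg (by
      rw [← Polynomial.natDegree_pos_iff_degree_pos, hQ]; norm_num) hl
    obtain ⟨x, hx⟩ := (h1.eventually_ge_atTop 0).exists
    exact ⟨x, hx⟩
  have hX : (-Polynomial.X : Polynomial ℝ).natDegree = 1 := by
    rw [Polynomial.natDegree_neg, Polynomial.natDegree_X]
  have hlX : (-Polynomial.X : Polynomial ℝ).leadingCoeff = -1 := by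
    rw [Polynomial.leadingCoeff_neg, Polynomial.leadingCoeff_X]
  have key2 : ∀ Q : Polynomial ℝ, Q.natDegree = 3 → 0 ≤ Q.leadingCoeff → ∃ r, Q.IsRoot r := by
    intro Q hQ hl
    obtain ⟨x, hx⟩ := key Q hQ hl
    obtain ⟨y, hy⟩ := key (-(Q.comp (-Polynomial.X))) (by
      rw [Polynomial.natDegree_neg, Polynomial.natDegree_comp, hQ, hX]) (by
      rw [Polynomial.leadingCoeff_neg, Polynomial.leadingCoeff_comp (by rw [hX]; norm_num), hlX,
        hQ]
      norm_num
      exact hl)
    rw [Polynomial.eval_neg, Polynomial.eval_comp, Polynomial.eval_neg, Polynomial.eval_X] at hy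
    obtain ⟨r, hr⟩ := mem_range_of_exists_le_of_exists_ge (c := (0 : ℝ))
      (f := fun x => Q.eval x) Q.continuous ⟨-y, by simpa using hy⟩ ⟨x, hx⟩
    exact ⟨r, hr⟩
  rcases le_total 0 P.leadingCoeff with h | h
  · exact key2 P hP h
  · obtain ⟨r, hr⟩ := key2 (-P) (by rw [Polynomial.natDegree_neg, hP]) (by
      rw [Polynomial.leadingCoeff_neg]; linarith)
    exact ⟨r, by simpa [Polynomial.IsRoot] using hr⟩

end K752.Ext
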