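import Groth.Agent.Cubic.K752.Avoid

set_option autoImplicit false

/-! Five points in general position, given points outside any finite set of planes. -/

namespace K752.Five

open Module

universe u v

variable {K : Type v} [Field K]

theorem exists_form_ne {n : ℕ} (hn : n < 4) (v : Fin n → Fin 4 → K) :
    ∃ l : (Fin 4 → K) →ₗ[K] K, l ≠ 0 ∧ ∀ x ∈ Submodule.span K (Set.range v), l x = 0 := by
  obtain ⟨x, hx⟩ := Basic.exists_not_mem_span (K := K) v (by simpa using hn)
  obtain ⟨l, hl, hlx⟩ := Avoid.exists_form _ hx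
  exact ⟨l, fun h => hlx (by rw [h]; rfl), hl⟩

theorem five {P : (Fin 4 → K) → Prop}
    (Av : ∀ L : Finset ((Fin 4 → K) →ₗ[K] K), (∀ l ∈ L, l ≠ 0) → ∃ p, P p ∧ ∀ l ∈ L, l p ≠ 0)
    {a : Fin 4 → K} (ha0 : a ≠ 0) (ha : P a) :
    ∃ p : Fin 5 → Fin 4 → K, p 0 = a ∧ (∀ j, P (p j)) ∧
      ∀ j : Fin 5, LinearIndependent K (fun i : Fin 4 => p (j.succAbove i)) := by
  classical
  have step : ∀ {n : ℕ} (hn : n < 4) (v : Fin n → Fin 4 → K),
      ∃ p, P p ∧ p ∉ Submodule.span K (Set.range v) := by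
    intro n hn v
    obtain ⟨l, hl, hlv⟩ := exists_form_ne hn v
    obtain ⟨p, hp, hlp⟩ := Av {l} (by simpa using hl)
    exact ⟨p, hp, fun h => hlp l (Finset.mem_singleton_self l) (hlv p h)⟩
  have hli1 : LinearIndependent K ![a] := by
    rw [linearIndependent_unique_iff]
    simpa using ha0
  obtain ⟨p1, hp1, h1⟩ := step (by norm_num) ![a]
  have hli2 : LinearIndependent K (Fin.snoc ![a] p1 : Fin 2 → Fin 4 → K) :=
    linearIndependent_finSnoc.mpr ⟨hli1, h1⟩
  obtain ⟨p2, hp2, h2⟩ := step (by norm_num) (Fin.snoc ![a] p1 : Fin 2 → Fin 4 → K)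
  have hli3 : LinearIndependent K (Fin.snoc (Fin.snoc ![a] p1 : Fin 2 → Fin 4 → K) p2 :
      Fin 3 → Fin 4 → K) := linearIndependent_finSnoc.mpr ⟨hli2, h2⟩
  obtain ⟨p3, hp3, h3⟩ := step (by norm_num) (Fin.snoc (Fin.snoc ![a] p1 : Fin 2 → Fin 4 → K) p2 :
      Fin 3 → Fin 4 → K)
  set v : Fin 4 → Fin 4 → K := Fin.snoc (Fin.snoc (Fin.snoc ![a] p1 : Fin 2 → Fin 4 → K) p2 :
      Fin 3 → Fin 4 → K) p3 with hv
  have hli4 : LinearIndependent K v := linearIndependent_finSnoc.mpr ⟨hli3, h3⟩
  have hPv : ∀ i, P (v i) := by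
    intro i
    fin_cases i
    · exact ha
    · exact hp1
    · exact hp2
    · exact hp3
  set b := basisOfLinearIndependentOfCardEqFinrank hli4 (by simp) with hb
  have hbv : ∀ i, b i = v i := fun i => by
    rw [hb, coe_basisOfLinearIndependentOfCardEqFinrank]
  obtain ⟨p4, hp4, h4⟩ := Av (Finset.univ.image fun i => b.coord i) (by
    intro l hl
    simp only [Finset.mem_image, Finset.mem_univ, true_and] at hl
    obtain ⟨i, rfl⟩ := hl
    intro h
    have := congrArg (fun l => l (b i)) h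
    simp at this)
  have h4' : ∀ i, b.coord i p4 ≠ 0 := fun i => h4 _ (Finset.mem_image_of_mem _ (Finset.mem_univ i))
  refine ⟨Fin.snoc v p4, ?_, ?_, ?_⟩
  · rfl
  · intro j
    refine Fin.lastCases ?_ (fun i => ?_) j
    · rw [Fin.snoc_last]; exact hp4
    · rw [Fin.snoc_castSucc]; exact hPv i
  · intro j
    refine Fin.lastCases ?_ (fun i => ?_) j
    · have : (fun i : Fin 4 => (Fin.snoc v p4 : Fin 5 → Fin 4 → K) ((Fin.last 4).succAbove i)) =
          v := by
        funext i
        rw [Fin.succAbove_last, Fin.snoc_castSucc]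
      rw [this]; exact hli4
    · have : (fun m : Fin 4 => (Fin.snoc v p4 : Fin 5 → Fin 4 → K) (i.castSucc.succAbove m)) =
          Fin.snoc (fun m => v (i.succAbove m)) p4 := by
        funext m
        refine Fin.lastCases ?_ (fun m => ?_) m
        · rw [Fin.snoc_last, Fin.succAbove_of_lt_succ _ _ (by
            rw [Fin.succ_last]; exact Fin.castSucc_lt_last _ ), Fin.succ_last, Fin.snoc_last]
        · rw [Fin.castSucc_succAbove_castSucc, Fin.snoc_castSucc, Fin.snoc_castSucc]
      rw [this, linearIndependent_finSnoc]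
      refine ⟨hli4.comp _ Fin.succAbove_right_injective, fun hmem => h4' i ?_⟩
      have hle : Submodule.span K (Set.range fun m => v (i.succAbove m)) ≤
          LinearMap.ker (b.coord i) := by
        rw [Submodule.span_le]
        rintro _ ⟨m, rfl⟩
        rw [SetLike.mem_coe, LinearMap.mem_ker]
        simp only
        rw [← hbv, Basis.coord_apply, Basis.repr_self, Finsupp.single_eq_of_ne]
        exact (Fin.succAbove_ne i m).symm
      exact hle hmem

end K752.Five
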