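import Mathlib

set_option autoImplicit false

/-! The determinant of the skew-symmetric matrix of the wheel with five spokes. -/

namespace K752.Wheel

universe u

variable {R : Type u} [CommRing R]

/-- The skew matrix of the wheel graph. -/
def wheel (z l : Fin 5 → R) : Matrix (Fin 6) (Fin 6) R :=
  !![0, z 0, 0, 0, -z 4, l 0;
    -z 0, 0, z 1, 0, 0, l 1;
    0, -z 1, 0, z 2, 0, l 2;
    0, 0, -z 2, 0, z 3, l 3;
    z 4, 0, 0, -z 3, 0, l 4;
    -l 0, -l 1, -l 2, -l 3, -l 4, 0]

theorem wheel_transpose (z l : Fin 5 → R) : (wheel z l).transpose = - wheel z l := by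
  ext i j
  fin_cases i <;> fin_cases j <;> simp [wheel]

theorem wheel_diag (z l : Fin 5 → R) (i : Fin 6) : wheel z l i i = 0 := by
  fin_cases i <;> simp [wheel]

theorem wheel_entry (z l : Fin 5 → R) (P : R → Prop) (h0 : P 0) (hneg : ∀ x, P x → P (-x))
    (hz : ∀ a, P (z a)) (hl : ∀ a, P (l a)) (i j : Fin 6) : P (wheel z l i j) := by
  fin_cases i <;> fin_cases j <;>
    first
    | exact h0
    | exact hz _
    | exact hneg _ (hz _)
    | exact hl _
    | exact hneg _ (hl _)

set_option maxHeartbeats 4000000 in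
theorem wheel_det (z l : Fin 5 → R) : (wheel z l).det =
    (l 0 * z 1 * z 3 + l 1 * z 2 * z 4 + l 2 * z 3 * z 0 + l 3 * z 4 * z 1
      + l 4 * z 0 * z 2) ^ 2 := by
  simp [wheel, Matrix.det_succ_row_zero, Fin.sum_univ_succ, Fin.succAbove]
  ring

end K752.Wheel
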