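import Groth.Agent.Cubic.K752.Std
import Groth.Agent.Cubic.K752.Wheel

set_option autoImplicit false

/-! A cubic form in four variables vanishing at five points in general position is the Pfaffian of a
`6 × 6` skew-symmetric matrix of linear forms. -/

namespace K752.Pfaff

open K656.Trilin MvPolynomial

universe u

variable {k : Type u} [Field k]

theorem rel_zero {p : Fin 5 → Fin 4 → k} (j : Fin 5)
    (h : LinearIndependent k (fun i : Fin 4 => p (j.succAbove i))) (d : Fin 5 → k) (hj : d j = 0)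
    (hd : ∑ m, d m • p m = 0) : ∀ m, d m = 0 := by
  rw [Fin.sum_univ_succAbove _ j, hj, zero_smul, zero_add] at hd
  have := Fintype.linearIndependent_iff.mp h (fun i => d (j.succAbove i)) hd
  intro m
  rcases Fin.eq_self_or_eq_succAbove j m with rfl | ⟨i, rfl⟩
  · exact hj
  · exact this i

theorem exists_rel {p : Fin 5 → Fin 4 → k}
    (h : ∀ j : Fin 5, LinearIndependent k (fun i : Fin 4 => p (j.succAbove i))) :
    ∃ d : Fin 5 → k, (∀ m, d m ≠ 0) ∧ ∑ m, d m • p m = 0 := by
  have h1 : ¬ LinearIndependent k p := by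
    intro hc
    have := hc.fintype_card_le_finrank
    simp at this
  obtain ⟨d, hd, m, hm⟩ := Fintype.not_linearIndependent_iff.mp h1
  refine ⟨d, fun j hj => hm (rel_zero j (h j) d hj hd m), hd⟩

theorem eval_smul_cube {F : MvPolynomial (Fin 4) k} [CharZero k] (hF : F.IsHomogeneous 3) (c : k)
    (v : Fin 4 → k) : eval (c • v) F = c ^ 3 * eval v F := by
  rw [← tri_diag hF, ← tri_diag hF]
  simp only [map_smul, LinearMap.smul_apply, smul_eq_mul]
  ring

theorem hom_lin (A : Matrix (Fin 4) (Fin 4) k) {f : MvPolynomial (Fin 4) k} {d : ℕ}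
    (hf : f.IsHomogeneous d) :
    (aeval (fun i : Fin 4 => ∑ j : Fin 4, C (A i j) * X j) f :
      MvPolynomial (Fin 4) k).IsHomogeneous d := by
  have := hf.aeval (fun i : Fin 4 => ∑ j : Fin 4, (C (A i j) * X j : MvPolynomial (Fin 4) k))
    (n := 1) (fun i => IsHomogeneous.sum _ _ _ fun j _ => by
      have := (isHomogeneous_C (Fin 4) (A i j)).mul (isHomogeneous_X k j)
      simpa using this)
  simpa using this

/-- The Pfaffian representation. -/
theorem main [CharZero k] {F : MvPolynomial (Fin 4) k} (hF : F.IsHomogeneous 3)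
    (p : Fin 5 → Fin 4 → k) (hp : ∀ j, eval (p j) F = 0)
    (hli : ∀ j : Fin 5, LinearIndependent k (fun i : Fin 4 => p (j.succAbove i))) :
    ∃ M : Matrix (Fin 6) (Fin 6) (MvPolynomial (Fin 4) k), (∀ i j, (M i j).IsHomogeneous 1) ∧
      M.transpose = -M ∧ (∀ i, M i i = 0) ∧ ∃ c : k, c ≠ 0 ∧ M.det = C c * F ^ 2 := by
  have : Infinite k := Infinite.of_injective (Nat.cast : ℕ → k) Nat.cast_injective
  obtain ⟨d, hd, hrel⟩ := exists_rel hli
  set q : Fin 5 → Fin 4 → k := fun m => d m • p m with hq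
  have hFq : ∀ m, eval (q m) F = 0 := fun m => by
    rw [hq]; simp only; rw [eval_smul_cube hF, hp, mul_zero]
  have hqs : q 0 + q 1 + q 2 + q 3 + q 4 = 0 := by
    rw [Fin.sum_univ_five] at hrel
    exact hrel
  set A : Matrix (Fin 4) (Fin 4) k := Matrix.of fun i j =>
    (![q 0, q 0 + q 1, q 0 + q 1 + q 2, q 0 + q 1 + q 2 + q 3] : Fin 4 → Fin 4 → k) j i with hA
  have hAv : ∀ v : Fin 4 → k, A.mulVec v = v 0 • q 0 + v 1 • (q 0 + q 1) +
      v 2 • (q 0 + q 1 + q 2) + v 3 • (q 0 + q 1 + q 2 + q 3) := by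
    intro v
    funext i
    simp [Matrix.mulVec, dotProduct, Fin.sum_univ_four, hA]
    ring
  have hdet : A.det ≠ 0 := by
    intro h0
    obtain ⟨v, hv, hv0⟩ := Matrix.exists_mulVec_eq_zero_iff.mpr h0
    apply hv
    rw [hAv] at hv0
    have h5 := rel_zero (p := p) 4 (hli 4)
      ![(v 0 + v 1 + v 2 + v 3) * d 0, (v 1 + v 2 + v 3) * d 1, (v 2 + v 3) * d 2, v 3 * d 3, 0]
      (by simp) (by
        rw [Fin.sum_univ_five, ← hv0]
        simp only [hq, Matrix.cons_val_zero, Matrix.cons_val_one, Matrix.cons_val, mul_smul,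
          zero_smul, add_smul, smul_add]
        abel)
    have e3 : v 3 = 0 := by
      have := h5 3
      simpa [hd] using this
    have e2 : v 2 = 0 := by
      have := h5 2
      simpa [hd, e3] using this
    have e1 : v 1 = 0 := by
      have := h5 1
      simpa [hd, e3, e2] using this
    have e0 : v 0 = 0 := by
      have := h5 0
      simpa [hd, e3, e2, e1] using this
    funext i
    fin_cases i
    · exact e0
    · exact e1
    · exact e2
    · exact e3
  set F' : MvPolynomial (Fin 4) k := aeval (fun i : Fin 4 => ∑ j : Fin 4, C (A i j) * X j) F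
    with hF'
  have hF'v : ∀ v, eval v F' = eval (A.mulVec v) F := fun v => eval_aeval_linear A F v
  have hF'h : F'.IsHomogeneous 3 := hom_lin A hF
  obtain ⟨l, hl, hdec⟩ := Std.decomp hF'h
    (by rw [hF'v, hAv]; simpa using hFq 0)
    (by
      rw [hF'v, hAv]
      have : (![-1, 1, 0, 0] : Fin 4 → k) 0 • q 0 + (![-1, 1, 0, 0] : Fin 4 → k) 1 • (q 0 + q 1) +
        (![-1, 1, 0, 0] : Fin 4 → k) 2 • (q 0 + q 1 + q 2) +
        (![-1, 1, 0, 0] : Fin 4 → k) 3 • (q 0 + q 1 + q 2 + q 3) = q 1 := by simp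
      rw [this]; exact hFq 1)
    (by
      rw [hF'v, hAv]
      have : (![0, -1, 1, 0] : Fin 4 → k) 0 • q 0 + (![0, -1, 1, 0] : Fin 4 → k) 1 • (q 0 + q 1) +
        (![0, -1, 1, 0] : Fin 4 → k) 2 • (q 0 + q 1 + q 2) +
        (![0, -1, 1, 0] : Fin 4 → k) 3 • (q 0 + q 1 + q 2 + q 3) = q 2 := by
        simp only [Matrix.cons_val_zero, Matrix.cons_val_one, Matrix.cons_val, zero_smul, neg_smul,
          one_smul]
        abel
      rw [this]; exact hFq 2)
    (by
      rw [hF'v, hAv]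
      have : (![0, 0, -1, 1] : Fin 4 → k) 0 • q 0 + (![0, 0, -1, 1] : Fin 4 → k) 1 • (q 0 + q 1) +
        (![0, 0, -1, 1] : Fin 4 → k) 2 • (q 0 + q 1 + q 2) +
        (![0, 0, -1, 1] : Fin 4 → k) 3 • (q 0 + q 1 + q 2 + q 3) = q 3 := by
        simp only [Matrix.cons_val_zero, Matrix.cons_val_one, Matrix.cons_val, zero_smul, neg_smul,
          one_smul]
        abel
      rw [this]; exact hFq 3)
    (by
      rw [hF'v, hAv]
      have : (![0, 0, 0, -1] : Fin 4 → k) 0 • q 0 + (![0, 0, 0, -1] : Fin 4 → k) 1 • (q 0 + q 1) +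
        (![0, 0, 0, -1] : Fin 4 → k) 2 • (q 0 + q 1 + q 2) +
        (![0, 0, 0, -1] : Fin 4 → k) 3 • (q 0 + q 1 + q 2 + q 3) = q 4 := by
        simp only [Matrix.cons_val_zero, Matrix.cons_val_one, Matrix.cons_val, zero_smul, neg_smul,
          one_smul]
        rw [eq_comm, zero_add, zero_add, zero_add, eq_neg_iff_add_eq_zero, add_comm]
        exact hqs
      rw [this]; exact hFq 4)
  set φ : MvPolynomial (Fin 4) k →ₐ[k] MvPolynomial (Fin 4) k :=
    aeval (fun i : Fin 4 => ∑ j : Fin 4, C (A⁻¹ i j) * X j) with hφ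
  have hφF : φ F' = F := by
    apply MvPolynomial.funext
    intro v
    rw [hφ, eval_aeval_linear, hF'v, Matrix.mulVec_mulVec,
      Matrix.mul_nonsing_inv _ (isUnit_iff_ne_zero.mpr hdet), Matrix.one_mulVec]
  have hz : ∀ a, (φ (Std.Z a)).IsHomogeneous 1 := fun a => hom_lin _ (Std.Z_hom a)
  have hl' : ∀ a, (φ (l a)).IsHomogeneous 1 := fun a => hom_lin _ (hl a)
  refine ⟨Wheel.wheel (fun a => φ (Std.Z a)) (fun a => φ (l a)), ?_, Wheel.wheel_transpose _ _,
    Wheel.wheel_diag _ _, 1, one_ne_zero, ?_⟩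
  · exact Wheel.wheel_entry _ _ (fun f : MvPolynomial (Fin 4) k => f.IsHomogeneous 1)
      (isHomogeneous_zero _ _ _)
      (fun _ h => h.neg) hz hl'
  · rw [Wheel.wheel_det, C_1, one_mul]
    congr 1
    conv_rhs => rw [← hφF, hdec]
    simp only [map_add, map_mul]

end K752.Pfaff
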