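import Groth.Agent.Cubic.K752.Sing
import Groth.Agent.Cubic.K752.Pfaff
import Groth.Agent.Cubic.K656.TPointMain

set_option autoImplicit false
set_option linter.unusedSectionVars false

/-! Five rational points in general position on a cubic surface with a rational point which is not a
`T`-point, and the resulting Pfaffian representations. -/

namespace K752.Main

open K656.Trilin K656.TPoint K656.Sing K656.Pencil K752.Avoid K752.Sing Module MvPolynomial

universe u v w

section Abs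

variable {k : Type u} {K : Type v} [Field k] [Field K] [Algebra k K] [CharZero K] [IsAlgClosed K]
variable {T : (Fin 4 → K) →ₗ[K] (Fin 4 → K) →ₗ[K] (Fin 4 → K) →ₗ[K] K}

theorem irr_of_noPlane (h : NoPlane T) : Irr T := fun φ hφ => by
  obtain ⟨x, hx, hx'⟩ := h (LinearMap.ker φ) (Basic.ker_finrank (by simp) hφ)
  exact ⟨x, hx, hx'⟩

theorem nt_of_not_tp {a : Fin 4 → K} (ha : T a a a = 0) (hs : T a a ≠ 0) (h : ¬ TP T a) :
    Basic.NT T a := by
  rintro ⟨m₁, m₂, m₃, hm⟩
  apply h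
  refine ⟨?_, ha, ?_, m₁, m₂, m₃, hm⟩
  · rintro rfl; simp at hs
  · by_contra hc
    push Not at hc
    exact hs (LinearMap.ext hc)

theorem TP.smul {b : Fin 4 → K} (h : TP T b) {c : K} (hc : c ≠ 0) : TP T (c • b) := by
  obtain ⟨hb0, hb, ⟨w, hw⟩, L₁, L₂, L₃, hL⟩ := h
  have e : ∀ x, T (c • b) (c • b) x = c * (c * T b b x) := fun x => by
    simp only [map_smul, LinearMap.smul_apply, smul_eq_mul]
  refine ⟨smul_ne_zero hc hb0, ?_, ⟨w, ?_⟩, L₁, L₂, L₃, fun x hx => hL x ?_⟩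
  · rw [e, map_smul, hb]; simp
  · rw [e]; exact mul_ne_zero hc (mul_ne_zero hc hw)
  · rw [e] at hx
    exact (mul_eq_zero.mp ((mul_eq_zero.mp hx).resolve_left hc)).resolve_left hc

theorem tp_of_not_nt {b : Fin 4 → K} (hb : T b b b = 0) (hs : T b b ≠ 0) (h : ¬ Basic.NT T b) :
    TP T b := by
  by_contra hc
  exact h (nt_of_not_tp hb hs hc)

/-- Rational points outside finitely many planes. -/
theorem avoid [Infinite k] (hT : IsSym3 T) (hTk : TriK k T) (hN : NoPlane T) (hC : NoCone T)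
    {a : Fin 4 → K} (haK : IsK k a) (ha0 : a ≠ 0) (ha : T a a a = 0) (hTP : ¬ TP T a)
    (L : Finset ((Fin 4 → K) →ₗ[K] K)) (hL : ∀ l ∈ L, l ≠ 0) :
    ∃ p, (IsK k p ∧ T p p p = 0) ∧ ∀ l ∈ L, l p ≠ 0 := by
  classical
  by_cases hs : T a a = 0
  · obtain ⟨p, h1, h2, h3⟩ := avoid_sing hT hTk haK ha0 hs (fun v hv => by
      by_contra hc
      push Not at hc
      exact hv (hC v hc)) (irr_of_noPlane hN) L hL
    exact ⟨p, ⟨h1, h2⟩, h3⟩
  · have hs' : ∃ w, T a a w ≠ 0 := by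
      by_contra hc
      push Not at hc
      exact hs (LinearMap.ext hc)
    have hfin := K656.TPointMain.finite_TPset (by simp) hT hN hC ha0 ha hs' hTP
    obtain ⟨p, h1, h2, h3⟩ := avoid_smooth hT hTk haK ha hs (nt_of_not_tp ha hs hTP)
      hfin.toFinset (fun W hW => by
        rw [Set.Finite.mem_toFinset] at hW
        rw [hW.1]; norm_num) (fun b hab hb hbs hbNT => by
        have hbT := tp_of_not_nt hb hbs hbNT
        refine ⟨Submodule.span K {b}, ?_, Submodule.mem_span_singleton_self b⟩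
        rw [Set.Finite.mem_toFinset]
        refine ⟨finrank_span_singleton hbT.1, ?_, ?_⟩
        · rw [Submodule.span_singleton_le_iff_mem]; exact hab
        · intro x hx hx0
          obtain ⟨c, rfl⟩ := Submodule.mem_span_singleton.mp hx
          exact TP.smul hbT (by rintro rfl; simp at hx0)) L hL
    exact ⟨p, ⟨h1, h2⟩, h3⟩

theorem five [Infinite k] (hT : IsSym3 T) (hTk : TriK k T) (hN : NoPlane T) (hC : NoCone T)
    {a : Fin 4 → K} (haK : IsK k a) (ha0 : a ≠ 0) (ha : T a a a = 0) (hTP : ¬ TP T a) :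
    ∃ p : Fin 5 → Fin 4 → K, p 0 = a ∧ (∀ j, IsK k (p j) ∧ T (p j) (p j) (p j) = 0) ∧
      ∀ j : Fin 5, LinearIndependent K (fun i : Fin 4 => p (j.succAbove i)) :=
  Five.five (avoid hT hTk hN hC haK ha0 ha hTP) ha0 ⟨haK, ha⟩

/-- If there are infinitely many lines and a `T`-point there are infinitely many singular points. -/
theorem singSet_infinite_of_tp (hT : IsSym3 T) (hN : NoPlane T) (hC : NoCone T)
    (hfin : (Lines T).Infinite) {b : Fin 4 → K} (hb : TP T b) : (SingSet T).Infinite := by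
  have hV : finrank K (Fin 4 → K) = 4 := by simp
  obtain ⟨M₁, M₂, M₃, hM, h1, h2, hn1, hn2, hn3⟩ := exists_forms hV hT hN hb
  have hsb := hb.2.2.1
  have hΛ1 : LinearMap.ker (T b b) ⊓ LinearMap.ker M₁ ∈ Lines T :=
    line_of_factor hV hsb (fun x hx h => by rw [hM x hx, h]; ring) hn1
  have hΛ2 : LinearMap.ker (T b b) ⊓ LinearMap.ker M₂ ∈ Lines T :=
    line_of_factor hV hsb (fun x hx h => by rw [hM x hx, h]; ring) hn2
  have hΛ3 : LinearMap.ker (T b b) ⊓ LinearMap.ker M₃ ∈ Lines T :=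
    line_of_factor hV hsb (fun x hx h => by rw [hM x hx, h]; ring) hn3
  have hk3 := finrank_ker_of_ne hV hsb
  have hcov : Lines T ⊆ ({U | U ∈ Lines T ∧ U ⊓ (LinearMap.ker (T b b) ⊓ LinearMap.ker M₁) ≠ ⊥} ∪
      {U | U ∈ Lines T ∧ U ⊓ (LinearMap.ker (T b b) ⊓ LinearMap.ker M₂) ≠ ⊥}) ∪
      {U | U ∈ Lines T ∧ U ⊓ (LinearMap.ker (T b b) ⊓ LinearMap.ker M₃) ≠ ⊥} := by
    intro W hW
    obtain ⟨x, hxW, hxK, hx0⟩ := exists_mem_inf (P := W) (Q := LinearMap.ker (T b b))
      (by rw [hW.1, hk3, hV]; norm_num)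
    have hx := hM x hxK
    rw [hW.2 x hxW] at hx
    have hbot : ∀ M : (Fin 4 → K) →ₗ[K] K, M x = 0 →
        W ⊓ (LinearMap.ker (T b b) ⊓ LinearMap.ker M) ≠ ⊥ := by
      intro M hMx h
      apply hx0
      have : x ∈ W ⊓ (LinearMap.ker (T b b) ⊓ LinearMap.ker M) := ⟨hxW, hxK, hMx⟩
      rw [h] at this
      exact (Submodule.mem_bot K).mp this
    rcases mul_eq_zero.mp hx.symm with h | h
    · rcases mul_eq_zero.mp h with h | h
      · exact Or.inl (Or.inl ⟨hW, hbot _ h⟩)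
      · exact Or.inl (Or.inr ⟨hW, hbot _ h⟩)
    · exact Or.inr ⟨hW, hbot _ h⟩
  have key : ∀ Λ ∈ Lines T, {U | U ∈ Lines T ∧ U ⊓ Λ ≠ ⊥}.Infinite → (SingSet T).Infinite := by
    intro Λ hΛ hinf
    refine singSet_infinite hV hT hN hC hΛ ?_
    refine Set.Infinite.mono ?_ (hinf.sdiff (Set.finite_singleton Λ))
    rintro U ⟨⟨h1, h2⟩, h3⟩
    exact ⟨h1, h3, h2⟩
  rcases Set.infinite_union.mp (hfin.mono hcov) with h | h
  · rcases Set.infinite_union.mp h with h | h
    · exact key _ hΛ1 h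
    · exact key _ hΛ2 h
  · exact key _ hΛ3 h

theorem not_singFin (h : (SingSet T).Infinite) : ¬ SingFin T := by
  classical
  rintro ⟨s, hs⟩
  apply h
  refine (s.image fun x => Submodule.span K {x}).finite_toSet.subset ?_
  rintro U ⟨hU1, hU⟩
  obtain ⟨b, hbU, hb0, hUb⟩ := exists_ne_zero_of_finrank_one hU1
  obtain ⟨x, hx, hbx⟩ := hs b (LinearMap.ext fun w => hU b hbU w)
  rw [Finset.mem_coe, Finset.mem_image]
  refine ⟨x, hx, ?_⟩
  rw [hUb]
  symm
  obtain ⟨c, rfl⟩ := Submodule.mem_span_singleton.mp hbx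
  have hc : c ≠ 0 := by rintro rfl; simp at hb0
  exact Submodule.span_singleton_smul_eq (isUnit_iff_ne_zero.mpr hc) x

/-- Either there is a rational singular point or all `T`-points lie on finitely many lines. -/
theorem dichotomy [IsGalois k K] (hT : IsSym3 T) (hN : NoPlane T) (hC : NoCone T)
    (hσ : ∀ σ : K ≃ₐ[k] K, ∀ v, T v v = 0 → T (fun i => σ (v i)) (fun i => σ (v i)) = 0) :
    (∃ v : Fin 4 → K, v ≠ 0 ∧ IsK k v ∧ T v v = 0) ∨
      ∃ S : Finset (Submodule K (Fin 4 → K)), (∀ W ∈ S, finrank K W = 2) ∧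
        ∀ b, TP T b → ∃ W ∈ S, b ∈ W := by
  have hV : finrank K (Fin 4 → K) = 4 := by simp
  by_cases hfin : (Lines T).Finite
  · right
    refine ⟨hfin.toFinset, fun W hW => ((Set.Finite.mem_toFinset _).mp hW).1, fun b hb => ?_⟩
    obtain ⟨M₁, M₂, M₃, hM, h1, h2, hn1, hn2, hn3⟩ := exists_forms hV hT hN hb
    have hΛ1 : LinearMap.ker (T b b) ⊓ LinearMap.ker M₁ ∈ Lines T :=
      line_of_factor hV hb.2.2.1 (fun x hx h => by rw [hM x hx, h]; ring) hn1
    exact ⟨_, (Set.Finite.mem_toFinset _).mpr hΛ1, hb.2.1, h1⟩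
  · by_cases hb : ∃ b, TP T b
    · obtain ⟨b, hb⟩ := hb
      exact Or.inl (exists_rational hT (irr_of_noPlane hN)
        (not_singFin (singSet_infinite_of_tp hT hN hC hfin hb)) hσ)
    · push Not at hb
      exact Or.inr ⟨∅, by simp, fun b h => absurd h (hb b)⟩

theorem gen_notMem (W : Submodule K (Fin 4 → K)) (hW : finrank K W < 4) :
    PF.Gen (LinearMap.ker (0 : (Fin 4 → K) →ₗ[K] K)) (fun x => x ∉ W) := by
  obtain ⟨x, -, hx⟩ : ∃ x ∈ (⊤ : Submodule K (Fin 4 → K)), x ∉ W :=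
    exists_mem_of_finrank_lt (by rw [finrank_top]; simpa using hW)
  obtain ⟨μ, hμ, hμx⟩ := exists_form W hx
  exact (PF.Gen.of_pf (PF.PF.lin μ) ⟨x, by simp, hμx⟩).mono fun v _ hv hvW => hv (hμ v hvW)

theorem exists_line [Infinite k] (hT : IsSym3 T) (hN : NoPlane T)
    (S : Finset (Submodule K (Fin 4 → K))) (hS : ∀ W ∈ S, finrank K W = 2) :
    ∃ u w : Fin 4 → K, IsK k u ∧ IsK k w ∧ T u u u ≠ 0 ∧ ∀ s t : K, (s ≠ 0 ∨ t ≠ 0) →
      s • u + t • w ≠ 0 ∧ ∀ W ∈ S, s • u + t • w ∉ W := by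
  classical
  have : Infinite K := Infinite.of_injective (Nat.cast : ℕ → K) Nat.cast_injective
  have hzero : FormK k (0 : (Fin 4 → K) →ₗ[K] K) := fun _ _ => zero_mem _
  obtain ⟨x₀, hx₀⟩ : ∃ x₀ : Fin 4 → K, T x₀ x₀ x₀ ≠ 0 := by
    obtain ⟨v, -, hv⟩ := irr_of_noPlane hN (LinearMap.proj 0) (by
      intro h
      have := congrArg (fun l => l (Pi.single 0 1 : Fin 4 → K)) h
      simp at this)
    exact ⟨v, hv⟩
  obtain ⟨u, -, huK, hu1, hu2⟩ := exists_kpt hzero
    ((PF.Gen.of_pf (Basic.pf3 hT) ⟨x₀, by simp, hx₀⟩).and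
      (PF.Gen.finset S (fun W x => x ∉ W) fun W hW => gen_notMem W (by rw [hS W hW]; norm_num)))
  have hu0 : u ≠ 0 := by rintro rfl; simp at hu1
  obtain ⟨w, -, hwK, hw⟩ := exists_kpt hzero
    (PF.Gen.finset (insert ⊥ S) (fun W x => x ∉ W ⊔ Submodule.span K {u}) fun W hW =>
      gen_notMem _ (by
        have h1 := Submodule.finrank_add_le_finrank_add_finrank W (Submodule.span K {u})
        rw [finrank_span_singleton hu0] at h1
        have h2 : finrank K W ≤ 2 := by
          rcases Finset.mem_insert.mp hW with rfl | hW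
          · simp
          · rw [hS W hW]
        omega))
  refine ⟨u, w, huK, hwK, hu1, fun s t hst => ?_⟩
  have key : ∀ W ∈ insert ⊥ S, s • u + t • w ∈ W → t = 0 := by
    intro W hW hmem
    by_contra ht
    apply hw W hW
    have e : w = t⁻¹ • (s • u + t • w) - (t⁻¹ * s) • u := by
      rw [smul_add, smul_smul, smul_smul, inv_mul_cancel₀ ht, one_smul]
      abel
    rw [e]
    exact Submodule.sub_mem _ (Submodule.mem_sup_left (Submodule.smul_mem _ _ hmem))
      (Submodule.mem_sup_right (Submodule.smul_mem _ _ (Submodule.mem_span_singleton_self u)))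
  constructor
  · intro h0
    have ht := key ⊥ (Finset.mem_insert_self _ _) (by rw [h0]; exact Submodule.zero_mem _)
    rw [ht, zero_smul, add_zero] at h0
    rcases hst with hs | ht'
    · exact hu0 ((smul_eq_zero.mp h0).resolve_left hs)
    · exact ht' ht
  · intro W hW hmem
    have ht := key W (Finset.mem_insert_of_mem hW) hmem
    rw [ht, zero_smul, add_zero] at hmem
    have hs : s ≠ 0 := by
      rcases hst with hs | ht'
      · exact hs
      · exact absurd ht ht'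
    exact hu2 W hW ((Submodule.smul_mem_iff W hs).mp hmem)

end Abs

end K752.Main
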