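import Groth.Agent.Cubic.K752.Main

set_option autoImplicit false
set_option linter.unusedSectionVars false

/-! Translation to polynomials: five rational points in general position and Pfaffian
representations. -/

namespace K752.Rep

open K656.Trilin K656.TPoint K656.Sing K752.Avoid K752.Sing Module MvPolynomial

universe u v w

variable {k : Type u} {K : Type v} [Field k] [Field K] [Algebra k K]

/-- The image of a vector. -/
def inc (k : Type u) {K : Type v} [Field k] [Field K] [Algebra k K] (v : Fin 4 → k) : Fin 4 → K :=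
  fun i => algebraMap k K (v i)

theorem eval_inc (F : MvPolynomial (Fin 4) k) (v : Fin 4 → k) :
    eval (inc k v : Fin 4 → K) (map (algebraMap k K) F) = algebraMap k K (eval v F) := by
  rw [eval_map, eval₂_comp]
  rfl

theorem coef_map (F : MvPolynomial (Fin 4) k) (i j l : Fin 4) :
    coef (map (algebraMap k K) F) i j l = algebraMap k K (coef F i j l) := by
  unfold coef
  rw [pderiv_map, pderiv_map, pderiv_map]
  have : (0 : Fin 4 → K) = inc k (0 : Fin 4 → k) := by funext i; simp [inc]
  rw [this, eval_inc]

theorem tri_map (F : MvPolynomial (Fin 4) k) (u v w : Fin 4 → k) :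
    tri (map (algebraMap k K) F) (inc k u) (inc k v) (inc k w) = algebraMap k K (tri F u v w) := by
  rw [tri_apply, tri_apply]
  simp only [map_sum, coef_map, inc, map_mul, map_div₀, map_ofNat]

theorem isK_inc (v : Fin 4 → k) : IsK k (inc k v : Fin 4 → K) := fun i => ⟨v i, rfl⟩

theorem IsK.exists {v : Fin 4 → K} (h : IsK k v) : ∃ v₀ : Fin 4 → k, v = inc k v₀ := by
  choose v₀ hv₀ using h
  exact ⟨v₀, funext fun i => (hv₀ i).symm⟩

theorem triK (F : MvPolynomial (Fin 4) k) : TriK k (tri (map (algebraMap k K) F)) := by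
  intro x y z hx hy hz
  obtain ⟨x, rfl⟩ := IsK.exists hx
  obtain ⟨y, rfl⟩ := IsK.exists hy
  obtain ⟨z, rfl⟩ := IsK.exists hz
  exact ⟨_, (tri_map F x y z).symm⟩

theorem inc_ne_zero {v : Fin 4 → k} (h : v ≠ 0) : (inc k v : Fin 4 → K) ≠ 0 := by
  intro h0
  apply h
  funext i
  exact (map_eq_zero (algebraMap k K)).mp (congrFun h0 i)

/-- Five points, over `k`. -/
theorem five [CharZero k] [CharZero K] [IsAlgClosed K] {F : MvPolynomial (Fin 4) k}
    (hF : F.IsHomogeneous 3)
    (hN : NoPlane (tri (map (algebraMap k K) F))) (hC : NoCone (tri (map (algebraMap k K) F)))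
    {a : Fin 4 → k} (ha0 : a ≠ 0) (ha : eval a F = 0)
    (hTP : ¬ TP (tri (map (algebraMap k K) F)) (inc k a)) :
    ∃ p : Fin 5 → Fin 4 → k, p 0 = a ∧ (∀ j, eval (p j) F = 0) ∧
      ∀ j : Fin 5, LinearIndependent k (fun i : Fin 4 => p (j.succAbove i)) := by
  have : Infinite k := Infinite.of_injective (Nat.cast : ℕ → k) Nat.cast_injective
  obtain ⟨p, hp0, hp, hli⟩ := Main.five (tri_sym _) (triK F) hN hC (isK_inc a) (inc_ne_zero ha0)
    (by rw [tri_map, tri_diag hF, ha, map_zero]) hTP
  choose q hq using fun j => IsK.exists (hp j).1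
  have hinj : Function.Injective (inc k : (Fin 4 → k) → Fin 4 → K) := by
    intro x y hxy
    funext i
    exact (algebraMap k K).injective (congrFun hxy i)
  refine ⟨q, hinj (by rw [← hq, hp0]), fun j => ?_, fun j => ?_⟩
  · have h1 := (hp j).2
    rw [hq, tri_map, tri_diag hF] at h1
    exact (map_eq_zero _).mp h1
  · rw [Fintype.linearIndependent_iff]
    intro c hc i
    have h1 := Fintype.linearIndependent_iff.mp (hli j) (fun i => algebraMap k K (c i)) (by
      simp only [hq]
      funext m
      have h2 := congrFun hc m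
      simp only [Finset.sum_apply, Pi.smul_apply, smul_eq_mul, Pi.zero_apply] at h2 ⊢
      simp only [inc]
      rw [← map_zero (algebraMap k K), ← h2, map_sum]
      exact Finset.sum_congr rfl fun i _ => (map_mul _ _ _).symm) i
    exact (map_eq_zero _).mp h1

theorem noCone_map [CharZero k] [CharZero K] {F : MvPolynomial (Fin 4) k}
    (hC : NoCone (tri F)) : NoCone (tri (map (algebraMap k K) F)) := by
  classical
  -- the linear map `v ↦ (T(v, e_j, e_l))`
  let f : (Fin 4 → k) →ₗ[k] (Fin 4 × Fin 4 → k) := LinearMap.pi fun jl =>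
    { toFun := fun v => tri F v (Pi.single jl.1 1) (Pi.single jl.2 1)
      map_add' := fun x y => by simp only [map_add, LinearMap.add_apply]
      map_smul' := fun c x => by
        simp only [map_smul, LinearMap.smul_apply, RingHom.id_apply] }
  have hf : LinearMap.ker f = ⊥ := by
    rw [LinearMap.ker_eq_bot']
    intro v hv
    apply hC
    have h1 : ∀ j l : Fin 4, tri F v (Pi.single j 1) (Pi.single l 1) = 0 := fun j l =>
      congrFun hv (j, l)
    intro x y
    rw [← sum_single x, ← sum_single y]
    simp only [map_sum, map_smul, LinearMap.sum_apply, LinearMap.smul_apply, h1, smul_zero,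
      Finset.sum_const_zero]
  obtain ⟨g, hg⟩ := f.exists_leftInverse_of_injective hf
  intro v hv
  funext m
  -- v m = Σ_i δ v_i
  have h1 : ∀ i : Fin 4, g (f (Pi.single i 1)) m = if m = i then 1 else 0 := by
    intro i
    have := LinearMap.congr_fun hg (Pi.single i 1)
    rw [LinearMap.comp_apply, LinearMap.id_apply] at this
    rw [this, Pi.single_apply]
  have h2 : ∀ x : Fin 4 × Fin 4 → k, g x m = ∑ jl, x jl * g (Pi.single jl 1) m := by
    intro x
    have : x = ∑ jl, x jl • (Pi.single jl 1 : Fin 4 × Fin 4 → k) := by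
      funext n
      simp [Finset.sum_apply, Pi.single_apply]
    conv_lhs => rw [this]
    rw [map_sum, Finset.sum_apply]
    simp only [map_smul, Pi.smul_apply, smul_eq_mul]
  have h3 : ∀ jl : Fin 4 × Fin 4, ∑ i, algebraMap k K (f (Pi.single i 1) jl) * v i = 0 := by
    rintro ⟨j, l⟩
    have h4 := hv (inc k (Pi.single j 1)) (inc k (Pi.single l 1))
    have h5 : v = ∑ i, v i • (inc k (Pi.single i 1 : Fin 4 → k) : Fin 4 → K) := by
      funext n
      simp [Finset.sum_apply, inc, Pi.single_apply, apply_ite (algebraMap k K)]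
    rw [h5] at h4
    simp only [map_sum, map_smul, LinearMap.sum_apply, LinearMap.smul_apply, tri_map,
      smul_eq_mul] at h4
    rw [← h4]
    exact Finset.sum_congr rfl fun i _ => mul_comm _ _
  have h6 : v m = ∑ i, algebraMap k K (g (f (Pi.single i 1)) m) * v i := by
    simp only [h1, apply_ite (algebraMap k K), map_one, map_zero, ite_mul, one_mul, zero_mul]
    simp
  rw [h6, Pi.zero_apply]
  have h7 : ∀ i, algebraMap k K (g (f (Pi.single i 1)) m) * v i =
      ∑ jl, algebraMap k K (g (Pi.single jl 1) m) * (algebraMap k K (f (Pi.single i 1) jl) * v i) := by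
    intro i
    rw [h2, map_sum, Finset.sum_mul]
    refine Finset.sum_congr rfl fun jl _ => ?_
    rw [map_mul]; ring
  simp only [h7]
  rw [Finset.sum_comm]
  refine Finset.sum_eq_zero fun jl _ => ?_
  rw [← Finset.mul_sum, h3, mul_zero]

end K752.Rep
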