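import Groth.Agent.Cubic.K752.Five

set_option autoImplicit false
set_option linter.unusedSectionVars false

/-! The singular points of a cubic surface: infinitely many singular points give a rational one. -/

namespace K752.Sing

open K656.Trilin Module

universe u v

variable {K : Type v} [Field K] [CharZero K]
variable {T : (Fin 4 → K) →ₗ[K] (Fin 4 → K) →ₗ[K] (Fin 4 → K) →ₗ[K] K}

/-- `F` vanishes on no hyperplane. -/
def Irr (T : (Fin 4 → K) →ₗ[K] (Fin 4 → K) →ₗ[K] (Fin 4 → K) →ₗ[K] K) : Prop :=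
  ∀ φ : (Fin 4 → K) →ₗ[K] K, φ ≠ 0 → ∃ v, φ v = 0 ∧ T v v v ≠ 0

theorem mem_span3 {v₁ v₂ v₃ v : Fin 4 → K} : v ∈ Submodule.span K (Set.range ![v₁, v₂, v₃]) ↔
    ∃ x y z : K, v = x • v₁ + y • v₂ + z • v₃ := by
  rw [Submodule.mem_span_range_iff_exists_fun]
  constructor
  · rintro ⟨c, hc⟩
    refine ⟨c 0, c 1, c 2, ?_⟩
    rw [← hc, Fin.sum_univ_three]
    rfl
  · rintro ⟨x, y, z, rfl⟩
    refine ⟨![x, y, z], ?_⟩
    rw [Fin.sum_univ_three]
    rfl

theorem Irr.exists_span (h : Irr T) {v : Fin 3 → Fin 4 → K} (hli : LinearIndependent K v) :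
    ∃ w ∈ Submodule.span K (Set.range v), T w w w ≠ 0 := by
  obtain ⟨l, hl, hlv⟩ := Five.exists_form_ne (by norm_num) v
  obtain ⟨w, hw, hw'⟩ := h l hl
  refine ⟨w, ?_, hw'⟩
  have h1 : Submodule.span K (Set.range v) = LinearMap.ker l := by
    apply Submodule.eq_of_le_of_finrank_eq
    · intro x hx; exact hlv x hx
    · rw [finrank_span_eq_card hli, Basic.ker_finrank (by simp) hl]; rfl
  rw [h1]; exact hw

theorem Irr.ne_zero (hT : IsSym3 T) (h : Irr T) {v₁ v₂ v₃ : Fin 4 → K}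
    (hli : LinearIndependent K ![v₁, v₂, v₃]) (h1 : T v₁ v₁ = 0) (h2 : T v₂ v₂ = 0)
    (h3 : T v₃ v₃ = 0) : T v₁ v₂ v₃ ≠ 0 := by
  obtain ⟨w, hw, hw'⟩ := h.exists_span hli
  obtain ⟨x, y, z, rfl⟩ := mem_span3.mp hw
  intro h0
  apply hw'
  have a1 : ∀ u, T v₁ v₁ u = 0 := fun u => by rw [h1]; rfl
  have a2 : ∀ u, T v₂ v₂ u = 0 := fun u => by rw [h2]; rfl
  have a3 : ∀ u, T v₃ v₃ u = 0 := fun u => by rw [h3]; rfl
  have b1 : ∀ u, T v₁ u v₁ = 0 := fun u => by rw [hT.s23]; exact a1 u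
  have b2 : ∀ u, T v₂ u v₂ = 0 := fun u => by rw [hT.s23]; exact a2 u
  have b3 : ∀ u, T v₃ u v₃ = 0 := fun u => by rw [hT.s23]; exact a3 u
  have c1 : ∀ u, T u v₁ v₁ = 0 := fun u => by rw [hT.rot]; exact a1 u
  have c2 : ∀ u, T u v₂ v₂ = 0 := fun u => by rw [hT.rot]; exact a2 u
  have c3 : ∀ u, T u v₃ v₃ = 0 := fun u => by rw [hT.rot]; exact a3 u
  have d1 : T v₁ v₃ v₂ = 0 := by rw [hT.s23]; exact h0
  have d2 : T v₂ v₁ v₃ = 0 := by rw [hT.s12]; exact h0
  have d3 : T v₂ v₃ v₁ = 0 := by rw [hT.rot']; exact h0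
  have d4 : T v₃ v₁ v₂ = 0 := by rw [hT.rot]; exact h0
  have d5 : T v₃ v₂ v₁ = 0 := by rw [hT.rot]; exact d2
  simp only [map_add, map_smul, LinearMap.add_apply, LinearMap.smul_apply, smul_eq_mul, a1, a2, a3,
    b1, b2, b3, c1, c2, c3, d1, d2, d3, d4, d5, h0]
  ring

/-- The square part in three singular vectors. -/
theorem sq3 (hT : IsSym3 T) {v₁ v₂ v₃ : Fin 4 → K} (h1 : T v₁ v₁ = 0) (h2 : T v₂ v₂ = 0)
    (h3 : T v₃ v₃ = 0) (x y z : K) (u : Fin 4 → K) :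
    T (x • v₁ + y • v₂ + z • v₃) (x • v₁ + y • v₂ + z • v₃) u =
      2 * (x * y * T v₁ v₂ u + x * z * T v₁ v₃ u + y * z * T v₂ v₃ u) := by
  simp only [map_add, map_smul, LinearMap.add_apply, LinearMap.smul_apply, smul_eq_mul, h1, h2, h3,
    LinearMap.zero_apply]
  rw [hT.s12 v₂ v₁ u, hT.s12 v₃ v₁ u, hT.s12 v₃ v₂ u]
  ring

theorem sq4 (hT : IsSym3 T) {v₁ v₂ v₃ v₄ : Fin 4 → K} (h1 : T v₁ v₁ = 0) (h2 : T v₂ v₂ = 0)
    (h3 : T v₃ v₃ = 0) (h4 : T v₄ v₄ = 0) (x y z w : K) (u : Fin 4 → K) :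
    T (x • v₁ + y • v₂ + z • v₃ + w • v₄) (x • v₁ + y • v₂ + z • v₃ + w • v₄) u =
      2 * (x * y * T v₁ v₂ u + x * z * T v₁ v₃ u + y * z * T v₂ v₃ u + x * w * T v₁ v₄ u
        + y * w * T v₂ v₄ u + z * w * T v₃ v₄ u) := by
  simp only [map_add, map_smul, LinearMap.add_apply, LinearMap.smul_apply, smul_eq_mul, h1, h2, h3,
    h4, LinearMap.zero_apply]
  rw [hT.s12 v₂ v₁ u, hT.s12 v₃ v₁ u, hT.s12 v₃ v₂ u, hT.s12 v₄ v₁ u, hT.s12 v₄ v₂ u,
    hT.s12 v₄ v₃ u]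
  ring

theorem plane (hT : IsSym3 T) (h : Irr T) {v₁ v₂ v₃ : Fin 4 → K}
    (hli : LinearIndependent K ![v₁, v₂, v₃]) (h1 : T v₁ v₁ = 0) (h2 : T v₂ v₂ = 0)
    (h3 : T v₃ v₃ = 0) (x y z : K)
    (hv : T (x • v₁ + y • v₂ + z • v₃) (x • v₁ + y • v₂ + z • v₃) = 0) :
    (y = 0 ∧ z = 0) ∨ (x = 0 ∧ z = 0) ∨ (x = 0 ∧ y = 0) := by
  have hne := h.ne_zero hT hli h1 h2 h3
  have h20 : (2 : K) ≠ 0 := by norm_num
  have z1 : ∀ u, T v₁ u v₁ = 0 := fun u => by rw [hT.s23, h1]; rfl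
  have z2 : ∀ u, T v₂ u v₂ = 0 := fun u => by rw [hT.s23, h2]; rfl
  have z3 : ∀ u, T v₃ u v₃ = 0 := fun u => by rw [hT.s23, h3]; rfl
  have e1 := sq3 hT h1 h2 h3 x y z v₁
  have e2 := sq3 hT h1 h2 h3 x y z v₂
  have e3 := sq3 hT h1 h2 h3 x y z v₃
  rw [hv, LinearMap.zero_apply, z1, z1, hT.rot' v₂ v₃ v₁] at e1
  rw [hv, LinearMap.zero_apply, z2, hT.s12 v₁ v₂ v₂, z2, hT.s23 v₁ v₃ v₂] at e2
  rw [hv, LinearMap.zero_apply, hT.s12 v₁ v₃ v₃, z3, hT.s12 v₂ v₃ v₃, z3] at e3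
  have f1 : y * z = 0 := by
    have : (2 * T v₁ v₂ v₃) * (y * z) = 0 := by linear_combination -e1
    exact (mul_eq_zero.mp this).resolve_left (mul_ne_zero h20 hne)
  have f2 : x * z = 0 := by
    have : (2 * T v₁ v₂ v₃) * (x * z) = 0 := by linear_combination -e2
    exact (mul_eq_zero.mp this).resolve_left (mul_ne_zero h20 hne)
  have f3 : x * y = 0 := by
    have : (2 * T v₁ v₂ v₃) * (x * y) = 0 := by linear_combination -e3
    exact (mul_eq_zero.mp this).resolve_left (mul_ne_zero h20 hne)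
  rcases mul_eq_zero.mp f1 with hy | hz
  · rcases mul_eq_zero.mp f2 with hx | hz
    · exact Or.inr (Or.inr ⟨hx, hy⟩)
    · exact Or.inl ⟨hy, hz⟩
  · rcases mul_eq_zero.mp f3 with hx | hy
    · exact Or.inr (Or.inl ⟨hx, hz⟩)
    · exact Or.inl ⟨hy, hz⟩

/-- With four independent singular points there is no further one. -/
theorem four (hT : IsSym3 T) (h : Irr T) {v₁ v₂ v₃ v₄ : Fin 4 → K}
    (hli : LinearIndependent K ![v₁, v₂, v₃, v₄]) (h1 : T v₁ v₁ = 0) (h2 : T v₂ v₂ = 0)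
    (h3 : T v₃ v₃ = 0) (h4 : T v₄ v₄ = 0) (x y z w : K)
    (hv : T (x • v₁ + y • v₂ + z • v₃ + w • v₄) (x • v₁ + y • v₂ + z • v₃ + w • v₄) = 0) :
    (y = 0 ∧ z = 0 ∧ w = 0) ∨ (x = 0 ∧ z = 0 ∧ w = 0) ∨ (x = 0 ∧ y = 0 ∧ w = 0) ∨
      (x = 0 ∧ y = 0 ∧ z = 0) := by
  have l123 : LinearIndependent K ![v₁, v₂, v₃] := by
    have := hli.comp ![(0 : Fin 4), 1, 2] (by decide)
    convert this using 1
    funext i; fin_cases i <;> rfl
  have l124 : LinearIndependent K ![v₁, v₂, v₄] := by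
    have := hli.comp ![(0 : Fin 4), 1, 3] (by decide)
    convert this using 1
    funext i; fin_cases i <;> rfl
  have l134 : LinearIndependent K ![v₁, v₃, v₄] := by
    have := hli.comp ![(0 : Fin 4), 2, 3] (by decide)
    convert this using 1
    funext i; fin_cases i <;> rfl
  have l234 : LinearIndependent K ![v₂, v₃, v₄] := by
    have := hli.comp ![(1 : Fin 4), 2, 3] (by decide)
    convert this using 1
    funext i; fin_cases i <;> rfl
  by_cases hw : w = 0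
  · rw [hw, zero_smul, add_zero] at hv
    rcases plane hT h l123 h1 h2 h3 x y z hv with h | h | h
    · exact Or.inl ⟨h.1, h.2, hw⟩
    · exact Or.inr (Or.inl ⟨h.1, h.2, hw⟩)
    · exact Or.inr (Or.inr (Or.inl ⟨h.1, h.2, hw⟩))
  by_cases hz : z = 0
  · rw [hz, zero_smul, add_zero] at hv
    rcases plane hT h l124 h1 h2 h4 x y w hv with h | h | h
    · exact Or.inl ⟨h.1, hz, h.2⟩
    · exact Or.inr (Or.inl ⟨h.1, hz, h.2⟩)
    · exact Or.inr (Or.inr (Or.inr ⟨h.1, h.2, hz⟩))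
  by_cases hy : y = 0
  · rw [hy, zero_smul, add_zero] at hv
    rcases plane hT h l134 h1 h3 h4 x z w hv with h | h | h
    · exact Or.inl ⟨hy, h.1, h.2⟩
    · exact absurd h.2 hw
    · exact absurd h.2 hz
  by_cases hx : x = 0
  · rw [hx, zero_smul, zero_add] at hv
    rcases plane hT h l234 h2 h3 h4 y z w hv with h | h | h
    · exact absurd h.1 hz
    · exact absurd h.1 hy
    · exact absurd h.1 hy
  exfalso
  have h20 : (2 : K) ≠ 0 := by norm_num
  have h30 : (3 : K) ≠ 0 := by norm_num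
  have hne := h.ne_zero hT l234 h2 h3 h4
  have z1 : ∀ u, T v₁ u v₁ = 0 := fun u => by rw [hT.s23, h1]; rfl
  have z2 : ∀ u, T v₂ u v₂ = 0 := fun u => by rw [hT.s23, h2]; rfl
  have z3 : ∀ u, T v₃ u v₃ = 0 := fun u => by rw [hT.s23, h3]; rfl
  have z4 : ∀ u, T v₄ u v₄ = 0 := fun u => by rw [hT.s23, h4]; rfl
  have e1 := sq4 hT h1 h2 h3 h4 x y z w v₁
  have e2 := sq4 hT h1 h2 h3 h4 x y z w v₂
  have e3 := sq4 hT h1 h2 h3 h4 x y z w v₃
  have e4 := sq4 hT h1 h2 h3 h4 x y z w v₄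
  rw [hv, LinearMap.zero_apply, z1, z1, z1, hT.rot' v₂ v₃ v₁, hT.rot' v₂ v₄ v₁,
    hT.rot' v₃ v₄ v₁] at e1
  rw [hv, LinearMap.zero_apply, z2, z2, hT.s12 v₁ v₂ v₂, z2, hT.s23 v₁ v₃ v₂, hT.s23 v₁ v₄ v₂,
    hT.rot' v₃ v₄ v₂] at e2
  rw [hv, LinearMap.zero_apply, z3, hT.s12 v₁ v₃ v₃, z3, hT.s12 v₂ v₃ v₃, z3, hT.s23 v₁ v₄ v₃,
    hT.s23 v₂ v₄ v₃] at e3
  rw [hv, LinearMap.zero_apply, hT.s12 v₁ v₄ v₄, z4, hT.s12 v₂ v₄ v₄, z4, hT.s12 v₃ v₄ v₄,
    z4] at e4
  set c1 := T v₂ v₃ v₄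
  set c2 := T v₁ v₃ v₄
  set c3 := T v₁ v₂ v₄
  set c4 := T v₁ v₂ v₃
  have hfin : (6 * (y * z * w)) * c1 = 0 := by
    linear_combination 2 * x * e1 - y * e2 - z * e3 - w * e4
  have : (6 * (y * z * w)) ≠ 0 :=
    mul_ne_zero (by norm_num) (mul_ne_zero (mul_ne_zero hy hz) hw)
  exact hne ((mul_eq_zero.mp hfin).resolve_left this)

/-- Finitely many singular directions. -/
def SingFin (T : (Fin 4 → K) →ₗ[K] (Fin 4 → K) →ₗ[K] (Fin 4 → K) →ₗ[K] K) : Prop :=
  ∃ s : Finset (Fin 4 → K), ∀ v, T v v = 0 → ∃ x ∈ s, v ∈ Submodule.span K {x}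

theorem range2 (x y : Fin 4 → K) : Set.range ![x, y] = {x, y} := by
  ext z
  rw [Set.mem_range, Set.mem_insert_iff, Set.mem_singleton_iff]
  constructor
  · rintro ⟨i, rfl⟩
    fin_cases i
    · exact Or.inl rfl
    · exact Or.inr rfl
  · rintro (rfl | rfl)
    · exact ⟨0, rfl⟩
    · exact ⟨1, rfl⟩

/-- Infinitely many singular directions: the singular points are exactly those of a line. -/
theorem sing_line (hT : IsSym3 T) (h : Irr T) (hinf : ¬ SingFin T) :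
    ∃ v₁ v₂ : Fin 4 → K, LinearIndependent K ![v₁, v₂] ∧ T v₁ v₁ = 0 ∧ T v₂ v₂ = 0 ∧
      T v₁ v₂ = 0 ∧ ∀ v, T v v = 0 → ∃ x y : K, v = x • v₁ + y • v₂ := by
  classical
  have ex : ∀ s : Finset (Fin 4 → K), ∃ v, T v v = 0 ∧ ∀ x ∈ s, v ∉ Submodule.span K {x} := by
    intro s
    by_contra hc
    push Not at hc
    exact hinf ⟨s, hc⟩
  obtain ⟨v₁, h1, hv1⟩ := ex {0}
  have hv10 : v₁ ≠ 0 := by
    rintro rfl
    exact hv1 0 (by simp) (Submodule.zero_mem _)
  obtain ⟨v₂, h2, hv2⟩ := ex {v₁}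
  have hli2 : LinearIndependent K ![v₁, v₂] := by
    rw [LinearIndependent.pair_iff' hv10]
    intro c hc
    exact hv2 v₁ (by simp) (hc ▸ Submodule.smul_mem _ _ (Submodule.mem_span_singleton_self v₁))
  have hline : ∀ v, T v v = 0 → ∃ x y : K, v = x • v₁ + y • v₂ := by
    intro v₃ h3
    by_contra hc
    push Not at hc
    have hli3 : LinearIndependent K ![v₃, v₁, v₂] := by
      refine linearIndependent_finCons.mpr ⟨hli2, fun hm => ?_⟩
      rw [range2, Submodule.mem_span_pair] at hm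
      obtain ⟨x, y, hxy⟩ := hm
      exact hc x y hxy.symm
    obtain ⟨v₄, h4, hv4⟩ := ex {v₁, v₂, v₃}
    by_cases hm : v₄ ∈ Submodule.span K (Set.range ![v₃, v₁, v₂])
    · obtain ⟨x, y, z, rfl⟩ := mem_span3.mp hm
      rcases plane hT h hli3 h3 h1 h2 x y z h4 with h | h | h
      · apply hv4 v₃ (by simp)
        rw [h.1, h.2, zero_smul, zero_smul, add_zero, add_zero]
        exact Submodule.smul_mem _ _ (Submodule.mem_span_singleton_self _)
      · apply hv4 v₁ (by simp)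
        rw [h.1, h.2, zero_smul, zero_smul, add_zero, zero_add]
        exact Submodule.smul_mem _ _ (Submodule.mem_span_singleton_self _)
      · apply hv4 v₂ (by simp)
        rw [h.1, h.2, zero_smul, zero_smul, zero_add, zero_add]
        exact Submodule.smul_mem _ _ (Submodule.mem_span_singleton_self _)
    · have hli4 : LinearIndependent K ![v₄, v₃, v₁, v₂] :=
        linearIndependent_finCons.mpr ⟨hli3, hm⟩
      obtain ⟨v, hv, hv5⟩ := ex {v₁, v₂, v₃, v₄}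
      set b := basisOfLinearIndependentOfCardEqFinrank hli4 (by simp) with hb
      have hbv : (b : Fin 4 → Fin 4 → K) = ![v₄, v₃, v₁, v₂] := by
        rw [hb, coe_basisOfLinearIndependentOfCardEqFinrank]
      have hs := b.sum_repr v
      rw [Fin.sum_univ_four, hbv] at hs
      simp only [Matrix.cons_val_zero, Matrix.cons_val_one, Matrix.cons_val] at hs
      have hv' := hv
      rw [← hs] at hv'
      rcases four hT h hli4 h4 h3 h1 h2 _ _ _ _ hv' with h | h | h | h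
      · apply hv5 v₄ (by simp)
        rw [← hs, h.1, h.2.1, h.2.2, zero_smul, zero_smul, zero_smul, add_zero, add_zero, add_zero]
        exact Submodule.smul_mem _ _ (Submodule.mem_span_singleton_self _)
      · apply hv5 v₃ (by simp)
        rw [← hs, h.1, h.2.1, h.2.2, zero_smul, zero_smul, zero_smul, add_zero, add_zero, zero_add]
        exact Submodule.smul_mem _ _ (Submodule.mem_span_singleton_self _)
      · apply hv5 v₁ (by simp)
        rw [← hs, h.1, h.2.1, h.2.2, zero_smul, zero_smul, zero_smul, add_zero, zero_add, zero_add]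
        exact Submodule.smul_mem _ _ (Submodule.mem_span_singleton_self _)
      · apply hv5 v₂ (by simp)
        rw [← hs, h.1, h.2.1, h.2.2, zero_smul, zero_smul, zero_smul, zero_add, zero_add, zero_add]
        exact Submodule.smul_mem _ _ (Submodule.mem_span_singleton_self _)
  obtain ⟨v₃, h3, hv3⟩ := ex {v₁, v₂}
  obtain ⟨x, y, rfl⟩ := hline v₃ h3
  have hx : x ≠ 0 := by
    rintro rfl
    apply hv3 v₂ (by simp)
    rw [zero_smul, zero_add]
    exact Submodule.smul_mem _ _ (Submodule.mem_span_singleton_self _)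
  have hy : y ≠ 0 := by
    rintro rfl
    apply hv3 v₁ (by simp)
    rw [zero_smul, add_zero]
    exact Submodule.smul_mem _ _ (Submodule.mem_span_singleton_self _)
  refine ⟨v₁, v₂, hli2, h1, h2, LinearMap.ext fun u => ?_, hline⟩
  have e := hT.sq_smul_add_smul v₁ v₂ u x y
  rw [h3, h1, h2, LinearMap.zero_apply, mul_zero, mul_zero, zero_add, add_zero] at e
  rw [LinearMap.zero_apply]
  have h20 : (2 : K) ≠ 0 := by norm_num
  exact (mul_eq_zero.mp e.symm).resolve_left (mul_ne_zero (mul_ne_zero h20 hx) hy)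

variable {k : Type u} [Field k] [Algebra k K]

/-- Infinitely many singular directions give a rational singular point. -/
theorem exists_rational [IsGalois k K] (hT : IsSym3 T) (h : Irr T) (hinf : ¬ SingFin T)
    (hσ : ∀ σ : K ≃ₐ[k] K, ∀ v, T v v = 0 → T (fun i => σ (v i)) (fun i => σ (v i)) = 0) :
    ∃ v : Fin 4 → K, v ≠ 0 ∧ Avoid.IsK k v ∧ T v v = 0 := by
  obtain ⟨v₁, v₂, hli, h1, h2, h12, hall⟩ := sing_line hT h hinf
  have hv1 : v₁ ≠ 0 := hli.ne_zero 0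
  obtain ⟨i, hi⟩ : ∃ i, v₁ i ≠ 0 := by
    by_contra hc
    push Not at hc
    exact hv1 (funext hc)
  set p := v₁ i • v₂ - v₂ i • v₁ with hp
  have hpi : p i = 0 := by rw [hp]; simp; ring
  have hp0 : p ≠ 0 := by
    intro h0
    have := (LinearIndependent.pair_iff.mp hli) (-v₂ i) (v₁ i) (by rw [← h0, hp, neg_smul]; abel)
    exact hi this.2
  obtain ⟨j, hj⟩ : ∃ j, p j ≠ 0 := by
    by_contra hc
    push Not at hc
    exact hp0 (funext hc)
  have hline : ∀ x y : K, T (x • v₁ + y • v₂) (x • v₁ + y • v₂) = 0 := by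
    intro x y
    refine LinearMap.ext fun u => ?_
    rw [hT.sq_smul_add_smul, h1, h2, h12]
    simp
  set q := (p j)⁻¹ • p with hq
  have hqi : q i = 0 := by rw [hq]; simp [hpi]
  have hqj : q j = 1 := by rw [hq]; simp [hj]
  have hqs : T q q = 0 := by
    have : q = (-((p j)⁻¹ * v₂ i)) • v₁ + ((p j)⁻¹ * v₁ i) • v₂ := by
      rw [hq, hp, smul_sub, smul_smul, smul_smul, neg_smul]; abel
    rw [this]; exact hline _ _
  have huniq : ∀ w, T w w = 0 → w i = 0 → w j = 1 → w = q := by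
    intro w hw hwi hwj
    obtain ⟨x, y, rfl⟩ := hall w hw
    simp only [Pi.add_apply, Pi.smul_apply, smul_eq_mul] at hwi hwj
    have e1 : x • v₁ + y • v₂ = (y / v₁ i) • p := by
      have hx : x = -(y * v₂ i / v₁ i) := by
        field_simp
        linear_combination hwi
      rw [hp, hx, smul_sub, smul_smul, smul_smul, neg_smul, div_mul_cancel₀ _ hi,
        show y / v₁ i * v₂ i = y * v₂ i / v₁ i by ring]
      abel
    have e2 : y / v₁ i * p j = 1 := by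
      have := congrFun e1 j
      simp only [Pi.add_apply, Pi.smul_apply, smul_eq_mul] at this
      rw [← this, hwj]
    rw [e1, hq]
    congr 1
    exact eq_inv_of_mul_eq_one_left e2
  refine ⟨q, fun h0 => ?_, fun m => ?_, hqs⟩
  · rw [h0] at hqj; simp at hqj
  · rw [RingHom.mem_fieldRange, ← RingHom.mem_range] 
    have := (InfiniteGalois.mem_range_algebraMap_iff_fixed (k := k) (q m)).mpr fun σ => by
      have := huniq _ (hσ σ q hqs) (by simp [hqi]) (by simp [hqj])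
      exact congrFun this m
    exact this

end K752.Sing
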