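import Groth.Agent.Cubic.K656.Trilin

set_option autoImplicit false

/-! Cubic forms through the five standard points. -/

namespace K752.Std

open K656.Trilin MvPolynomial

universe u

variable {k : Type u} [Field k]

theorem sort12 (f : MvPolynomial (Fin 4) k) (i j l : Fin 4) (_ : j < i) :
    coef f i j l = coef f j i l := coef_s12 f i j l

theorem sort23 (f : MvPolynomial (Fin 4) k) (i j l : Fin 4) (_ : l < j) :
    coef f i j l = coef f i l j := coef_s23 f i j l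

/-- The five linear forms with sum zero. -/
noncomputable def Z : Fin 5 → MvPolynomial (Fin 4) k :=
  ![X 0, X 1, X 2, X 3, -(X 0 + X 1 + X 2 + X 3)]

theorem Z_hom (a : Fin 5) : (Z (k := k) a).IsHomogeneous 1 := by
  fin_cases a
  · exact isHomogeneous_X _ _
  · exact isHomogeneous_X _ _
  · exact isHomogeneous_X _ _
  · exact isHomogeneous_X _ _
  · exact ((((isHomogeneous_X _ _).add (isHomogeneous_X _ _)).add (isHomogeneous_X _ _)).add
      (isHomogeneous_X _ _)).neg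

/-- a linear form -/
noncomputable def lf (a b c d : k) : MvPolynomial (Fin 4) k :=
  C a * X 0 + C b * X 1 + C c * X 2 + C d * X 3

theorem lf_hom (a b c d : k) : (lf a b c d).IsHomogeneous 1 := by
  have h : ∀ (a : k) (i : Fin 4), (C a * X i : MvPolynomial (Fin 4) k).IsHomogeneous 1 := by
    intro a i
    have := (isHomogeneous_C (Fin 4) a).mul (isHomogeneous_X k i)
    simpa using this
  exact (((h a 0).add (h b 1)).add (h c 2)).add (h d 3)

theorem eval_lf (a b c d : k) (v : Fin 4 → k) :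
    eval v (lf a b c d) = a * v 0 + b * v 1 + c * v 2 + d * v 3 := by
  simp [lf]

/-- The cubic as an explicit sum of twenty monomials. -/
theorem expand {f : MvPolynomial (Fin 4) k} (hf : f.IsHomogeneous 3) (v : Fin 4 → k) :
    6 * eval v f = coef f 0 0 0 * v 0 ^ 3 + coef f 1 1 1 * v 1 ^ 3 + coef f 2 2 2 * v 2 ^ 3
      + coef f 3 3 3 * v 3 ^ 3
      + 3 * coef f 0 0 1 * v 0 ^ 2 * v 1 + 3 * coef f 0 0 2 * v 0 ^ 2 * v 2
      + 3 * coef f 0 0 3 * v 0 ^ 2 * v 3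
      + 3 * coef f 0 1 1 * v 1 ^ 2 * v 0 + 3 * coef f 1 1 2 * v 1 ^ 2 * v 2
      + 3 * coef f 1 1 3 * v 1 ^ 2 * v 3
      + 3 * coef f 0 2 2 * v 2 ^ 2 * v 0 + 3 * coef f 1 2 2 * v 2 ^ 2 * v 1
      + 3 * coef f 2 2 3 * v 2 ^ 2 * v 3
      + 3 * coef f 0 3 3 * v 3 ^ 2 * v 0 + 3 * coef f 1 3 3 * v 3 ^ 2 * v 1
      + 3 * coef f 2 3 3 * v 3 ^ 2 * v 2
      + 6 * coef f 0 1 2 * v 0 * v 1 * v 2 + 6 * coef f 0 1 3 * v 0 * v 1 * v 3
      + 6 * coef f 0 2 3 * v 0 * v 2 * v 3 + 6 * coef f 1 2 3 * v 1 * v 2 * v 3 := by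
  rw [six_eval hf]
  simp +decide only [Fin.sum_univ_four, sort12, sort23]
  ring

/-- A cubic form vanishing at the five standard points is a combination of the five quadrics
`z_{a+1} z_{a+3}`. -/
theorem decomp [CharZero k] {f : MvPolynomial (Fin 4) k} (hf : f.IsHomogeneous 3)
    (h0 : eval ![1, 0, 0, 0] f = 0) (h1 : eval ![-1, 1, 0, 0] f = 0)
    (h2 : eval ![0, -1, 1, 0] f = 0) (h3 : eval ![0, 0, -1, 1] f = 0)
    (h4 : eval ![0, 0, 0, -1] f = 0) :
    ∃ l : Fin 5 → MvPolynomial (Fin 4) k, (∀ a, (l a).IsHomogeneous 1) ∧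
      f = l 0 * Z 1 * Z 3 + l 1 * Z 2 * Z 4 + l 2 * Z 3 * Z 0 + l 3 * Z 4 * Z 1
        + l 4 * Z 0 * Z 2 := by
  have : Infinite k := Infinite.of_injective (Nat.cast : ℕ → k) Nat.cast_injective
  have h6 : (6 : k) ≠ 0 := by norm_num
  have e0 := expand hf ![1, 0, 0, 0]
  have e1 := expand hf ![-1, 1, 0, 0]
  have e2 := expand hf ![0, -1, 1, 0]
  have e3 := expand hf ![0, 0, -1, 1]
  have e4 := expand hf ![0, 0, 0, -1]
  rw [h0] at e0
  rw [h1] at e1
  rw [h2] at e2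
  rw [h3] at e3
  rw [h4] at e4
  simp only [Matrix.cons_val_zero, Matrix.cons_val_one, Matrix.cons_val] at e0 e1 e2 e3 e4
  set A1 := coef f 1 1 1 / 6 with hA1
  set A2 := coef f 2 2 2 / 6 with hA2
  set B10 := coef f 0 1 1 / 2 with hB10
  set B21 := coef f 1 2 2 / 2 with hB21
  set B23 := coef f 2 2 3 / 2 with hB23
  refine ⟨![lf (-B10 + A1) (-A1 + coef f 1 1 3 / 2) (-B21 - B23 + 2 * A2 + coef f 1 2 3)
      (coef f 1 3 3 / 2),
    lf 0 (-B21 + A2) (-A2) (-B23 + A2),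
    lf (coef f 0 0 3 / 2) (coef f 0 1 3) 0 (coef f 0 3 3 / 2),
    lf (-B10 + A1) (-A1) 0 0,
    lf (coef f 0 0 2 / 2) (-B10 - B21 + A1 + A2 + coef f 0 1 2) (-A2 + coef f 0 2 2 / 2)
      (-B23 + A2 + coef f 0 2 3)], ?_, ?_⟩
  · intro a
    fin_cases a <;> exact lf_hom _ _ _ _
  · apply MvPolynomial.funext
    intro v
    apply mul_left_cancel₀ h6
    rw [expand hf v]
    simp only [map_add, map_mul, eval_lf, Z, Matrix.cons_val_zero, Matrix.cons_val_one,
      Matrix.cons_val, eval_X, map_neg]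
    simp only [hA1, hA2, hB10, hB21, hB23]
    linear_combination (-(v 0 ^ 3 + v 0 ^ 2 * v 1)) * e0 + (-(v 0 ^ 2 * v 1)) * e1
      + (-(v 1 ^ 2 * v 2)) * e2 + (v 2 * v 3 ^ 2) * e3 + (v 3 ^ 3 + v 2 * v 3 ^ 2) * e4

end K752.Std
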